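import Cfsg.Agent.Lib.FgsC.SUClasses.Poly
import Cfsg.Agent.Lib.KnownB.UnitaryConj
import Cfsg.Agent.Lib.FgsB.SLClassBound

/-!
Elementary divisors of a unitary matrix are permuted by the conjugate-reciprocal map, and the determinants of
unitary centralising elements.
-/

set_option autoImplicit false

universe u

namespace CfsgLib.FgsC.SUClasses

open Polynomial CfsgLib.FgsB.GLClassBound CfsgLib.FgsC.PSLClasses CfsgLib.KnownB.UnitaryConj
  CfsgLib.KnownB.NormTrick

variable {F : Type u} [Field F] {n : ℕ}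

/-- The dimension of the kernel of a matrix. -/
noncomputable def nullity (M : Matrix (Fin n) (Fin n) F) : ℕ :=
  Module.finrank F (LinearMap.ker (Matrix.toLin' M))

theorem kerDim_eq_nullity (A : Matrix (Fin n) (Fin n) F) (f : F[X]) : kerDim A f = nullity (aeval A f) := by
  rw [kerDim, nullity]
  have h := aeval_algHom_apply (Matrix.toLinAlgEquiv' (R := F) (n := Fin n)).toAlgHom A f
  exact congrArg (fun T => Module.finrank F (LinearMap.ker T)) h

theorem nullity_transpose (M : Matrix (Fin n) (Fin n) F) : nullity M.transpose = nullity M := by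
  have h1 := LinearMap.finrank_range_add_finrank_ker (Matrix.toLin' M)
  have h2 := LinearMap.finrank_range_add_finrank_ker (Matrix.toLin' M.transpose)
  have h3 : M.transpose.rank = M.rank := Matrix.rank_transpose M
  rw [Matrix.rank, Matrix.rank, ← Matrix.toLin'_apply', ← Matrix.toLin'_apply'] at h3
  simp only [nullity]
  omega

theorem nullity_map [Finite F] {σ : F →+* F} (hσ2 : ∀ x, σ (σ x) = x) (M : Matrix (Fin n) (Fin n) F) :
    nullity (M.map σ) = nullity M := by
  have hmv : ∀ (N : Matrix (Fin n) (Fin n) F) (v : Fin n → F),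
      Matrix.mulVec (N.map σ) (fun i => σ (v i)) = fun i => σ (Matrix.mulVec N v i) := fun N v =>
    funext fun i => (RingHom.map_mulVec σ N v i).symm
  have hmm : (M.map σ).map σ = M := by ext i j; exact hσ2 _
  have e : LinearMap.ker (Matrix.toLin' M) ≃ LinearMap.ker (Matrix.toLin' (M.map σ)) :=
    { toFun := fun v => ⟨fun i => σ (v.1 i), by
        have h := v.2
        rw [LinearMap.mem_ker, Matrix.toLin'_apply] at h ⊢
        rw [hmv, h]
        funext i; simp⟩
      invFun := fun v => ⟨fun i => σ (v.1 i), by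
        have h := v.2
        rw [LinearMap.mem_ker, Matrix.toLin'_apply] at h ⊢
        have h2 := hmv (M.map σ) v.1
        rw [h, hmm] at h2
        rw [h2]
        funext i; simp⟩
      left_inv := fun v => Subtype.ext (funext fun i => hσ2 _)
      right_inv := fun v => Subtype.ext (funext fun i => hσ2 _) }
  have h := Nat.card_congr e
  rw [Module.natCard_eq_pow_finrank (K := F) (V := LinearMap.ker (Matrix.toLin' M)),
    Module.natCard_eq_pow_finrank (K := F) (V := LinearMap.ker (Matrix.toLin' (M.map σ)))] at h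
  exact (Nat.pow_right_injective (Finite.one_lt_card (α := F)) h).symm

theorem nullity_unit_mul (U : GL (Fin n) F) (M : Matrix (Fin n) (Fin n) F) :
    nullity ((U : Matrix (Fin n) (Fin n) F) * M) = nullity M := by
  have h : LinearMap.ker (Matrix.toLin' ((U : Matrix (Fin n) (Fin n) F) * M)) = LinearMap.ker (Matrix.toLin' M) := by
    ext v
    rw [LinearMap.mem_ker, LinearMap.mem_ker, Matrix.toLin'_mul, LinearMap.comp_apply]
    refine ⟨fun hv => ?_, fun hv => by rw [hv, map_zero]⟩
    have := congrArg (Matrix.toLin' ((U⁻¹ : GL (Fin n) F) : Matrix (Fin n) (Fin n) F)) hv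
    rwa [← LinearMap.comp_apply, ← Matrix.toLin'_mul, ← Units.val_mul, inv_mul_cancel, Units.val_one,
      Matrix.toLin'_one, LinearMap.id_apply, map_zero] at this
  rw [nullity, nullity, h]

theorem nullity_smul {c : F} (hc : c ≠ 0) (M : Matrix (Fin n) (Fin n) F) : nullity (c • M) = nullity M := by
  rw [nullity, nullity, map_smul, LinearMap.ker_smul _ _ hc]

theorem aeval_reverse (A : GL (Fin n) F) (h : F[X]) :
    aeval (A : Matrix (Fin n) (Fin n) F) h.reverse =
      ((A ^ h.natDegree : GL (Fin n) F) : Matrix (Fin n) (Fin n) F) *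
        aeval ((A⁻¹ : GL (Fin n) F) : Matrix (Fin n) (Fin n) F) h := by
  have hd : h.reverse.natDegree < h.natDegree + 1 := Nat.lt_succ_of_le (reverse_natDegree_le h)
  rw [aeval_eq_sum_range' hd, aeval_eq_sum_range, Finset.mul_sum,
    ← Finset.sum_range_reflect (fun i => h.reverse.coeff i • (A : Matrix (Fin n) (Fin n) F) ^ i)]
  refine Finset.sum_congr rfl fun i hi => ?_
  rw [Finset.mem_range] at hi
  have hi' : i ≤ h.natDegree := by omega
  rw [show h.natDegree + 1 - 1 - i = h.natDegree - i by omega, coeff_reverse,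
    revAt_le (by omega), Nat.sub_sub_self hi', mul_smul_comm]
  congr 1
  rw [← Units.val_pow_eq_pow_val, ← Units.val_pow_eq_pow_val, ← Units.val_mul, inv_pow]
  congr 1
  rw [eq_mul_inv_iff_mul_eq, ← pow_add, Nat.sub_add_cancel hi']

variable {σ : F →+* F} (hσ2 : ∀ x, σ (σ x) = x)

include hσ2 in
theorem adj_pow (X : Matrix (Fin n) (Fin n) F) (k : ℕ) : adj σ (X ^ k) = adj σ X ^ k := by
  induction k with
  | zero => rw [pow_zero, pow_zero, (isInvol_adj hσ2).map_one]
  | succ k ih => rw [pow_succ, (isInvol_adj hσ2).map_mul, ih, pow_succ']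

include hσ2 in
theorem aeval_adj (X : Matrix (Fin n) (Fin n) F) (h : F[X]) :
    aeval (adj σ X) (h.map σ) = adj σ (aeval X h) := by
  induction h using Polynomial.induction_on' with
  | add p r hp hr => rw [Polynomial.map_add, map_add, map_add, hp, hr, (isInvol_adj hσ2).map_add]
  | monomial k a =>
    rw [map_monomial, aeval_monomial, aeval_monomial, ← Algebra.smul_def, ← Algebra.smul_def, adj_smul,
      adj_pow hσ2]

include hσ2 in
/-- Kernel dimensions of a unitary matrix at a polynomial and at its conjugate reciprocal agree. -/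
theorem kerDim_tl [Finite F] {A : GL (Fin n) F}
    (hA : adj σ (A : Matrix (Fin n) (Fin n) F) * A = 1) {h : F[X]} (h0 : h.coeff 0 ≠ 0) :
    kerDim (A : Matrix (Fin n) (Fin n) F) (tl σ h) = kerDim (A : Matrix (Fin n) (Fin n) F) h := by
  have hinv : ((A⁻¹ : GL (Fin n) F) : Matrix (Fin n) (Fin n) F) = adj σ (A : Matrix (Fin n) (Fin n) F) :=
    (eq_of_inv_mul_eq_one (A := A) hA)
  rw [kerDim_eq_nullity, kerDim_eq_nullity, tl, map_mul, aeval_C, ← Algebra.smul_def,
    nullity_smul (inv_ne_zero ((map_ne_zero σ).2 h0)), aeval_reverse, nullity_unit_mul, hinv, aeval_adj hσ2,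
    adj, nullity_transpose, nullity_map hσ2]
where
  eq_of_inv_mul_eq_one {A : GL (Fin n) F} {X : Matrix (Fin n) (Fin n) F}
      (h : X * (A : Matrix (Fin n) (Fin n) F) = 1) :
      ((A⁻¹ : GL (Fin n) F) : Matrix (Fin n) (Fin n) F) = X := by
    calc ((A⁻¹ : GL (Fin n) F) : Matrix (Fin n) (Fin n) F)
        = X * (A : Matrix (Fin n) (Fin n) F) * ((A⁻¹ : GL (Fin n) F) : Matrix (Fin n) (Fin n) F) := by
          rw [h, one_mul]
      _ = X := by rw [mul_assoc, A.mul_inv, mul_one]

include hσ2 in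
/-- The tuple of a matrix whose kernel dimensions are `tl`-invariant is fixed by `tl`. -/
theorem tl_tupleOf_of_kerDim {A : GL (Fin n) F}
    (hker : ∀ h : F[X], h.coeff 0 ≠ 0 →
      kerDim (A : Matrix (Fin n) (Fin n) F) (tl σ h) = kerDim (A : Matrix (Fin n) (Fin n) F) h)
    {ι : Type u} [Fintype ι] {p : ι → F[X]} {e : ι → ℕ} (hd : IsDivisorData n p e)
    (hE : Nonempty (MatModule (A : Matrix (Fin n) (Fin n) F) ≃ₗ[F[X]] ((i : ι) → F[X] ⧸ F[X] ∙ (p i ^ e i))))
    (i : Fin n) : tl σ (tupleOf n p e i) = tupleOf n p e i := by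
  classical
  have hpe := hd.1
  let S := {x : ι // e x = (i : ℕ) + 1}
  have hcount : ∀ R : F[X], Fintype.card {x : S // tl σ (p x.1) = R} = Fintype.card {x : S // p x.1 = R} := by
    intro R
    by_cases hR : R.Monic ∧ Irreducible R ∧ R.coeff 0 ≠ 0
    · obtain ⟨hRm, hRi, hR0⟩ := hR
      have hc := count_eq_of_kerDim hd hE (tl_monic (σ := σ) hR0) (tl_irreducible hσ2 hRm hR0 hRi) hRm hRi
        (natDegree_tl hR0) (fun j => by
          rw [← tl_pow, hker]
          rw [coeff_zero_eq_eval_zero, eval_pow, ← coeff_zero_eq_eval_zero]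
          exact pow_ne_zero _ hR0) (i : ℕ)
      refine Eq.trans ?_ (hc.trans ?_)
      · exact Fintype.card_congr
          { toFun := fun x => ⟨x.1.1, (by
              conv_lhs => rw [← tl_tl hσ2 (hpe x.1.1).1 (hpe x.1.1).2.2.1]
              rw [x.2]), x.1.2⟩
            invFun := fun x => ⟨⟨x.1, x.2.2⟩, by
              show tl σ (p x.1) = R
              rw [x.2.1, tl_tl hσ2 hRm hR0]⟩
            left_inv := fun x => rfl
            right_inv := fun x => rfl }
      · exact Fintype.card_congr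
          { toFun := fun x => ⟨⟨x.1, x.2.2⟩, x.2.1⟩
            invFun := fun x => ⟨x.1.1, x.2, x.1.2⟩
            left_inv := fun x => rfl
            right_inv := fun x => rfl }
    · rw [Fintype.card_eq_zero_iff.2 (⟨fun x => hR ⟨x.2 ▸ tl_monic (hpe x.1.1).2.2.1,
          x.2 ▸ tl_irreducible hσ2 (hpe x.1.1).1 (hpe x.1.1).2.2.1 (hpe x.1.1).2.1,
          x.2 ▸ tl_coeff_zero_ne (hpe x.1.1).1 (hpe x.1.1).2.2.1⟩⟩ : IsEmpty {x : S // tl σ (p x.1) = R}),
        Fintype.card_eq_zero_iff.2 (⟨fun x => hR ⟨x.2 ▸ (hpe x.1.1).1, x.2 ▸ (hpe x.1.1).2.1,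
          x.2 ▸ (hpe x.1.1).2.2.1⟩⟩ : IsEmpty {x : S // p x.1 = R})]
  let τ : S ≃ S := Equiv.ofFiberEquiv fun R => Fintype.equivOfCardEq (hcount R)
  have hτ : ∀ x, p (τ x).1 = tl σ (p x.1) := fun x =>
    Equiv.ofFiberEquiv_map (f := fun y : S => tl σ (p y.1)) (g := fun y : S => p y.1) _ x
  rw [tupleOf_apply, tl_prod σ,
    Finset.prod_subtype (p := fun x => e x = (i : ℕ) + 1) _ (fun x => by simp) (fun x => tl σ (p x)),
    Finset.prod_subtype (p := fun x => e x = (i : ℕ) + 1) _ (fun x => by simp) p]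
  exact Fintype.prod_equiv τ _ _ fun x => (hτ x).symm

include hσ2 in
/-- The tuple of a unitary matrix is fixed by `tl`. -/
theorem tl_tupleOf [Finite F] {A : GL (Fin n) F} (hA : adj σ (A : Matrix (Fin n) (Fin n) F) * A = 1)
    {ι : Type u} [Fintype ι] {p : ι → F[X]} {e : ι → ℕ} (hd : IsDivisorData n p e)
    (hE : Nonempty (MatModule (A : Matrix (Fin n) (Fin n) F) ≃ₗ[F[X]] ((i : ι) → F[X] ⧸ F[X] ∙ (p i ^ e i))))
    (i : Fin n) : tl σ (tupleOf n p e i) = tupleOf n p e i :=
  tl_tupleOf_of_kerDim hσ2 (fun _ h0 => kerDim_tl hσ2 hA h0) hd hE i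

theorem det_adj (X : Matrix (Fin n) (Fin n) F) : (adj σ X).det = σ X.det := by
  rw [adj, Matrix.det_transpose, RingHom.map_det]
  rfl

include hσ2 in
/-- Determinants of unitary elements of the centraliser. -/
theorem exists_unitary_centralizer_det [Finite F] (hσne : σ ≠ RingHom.id F) {A C : GL (Fin n) F}
    (hA : adj σ (A : Matrix (Fin n) (Fin n) F) * A = 1) (hC : C * A = A * C) :
    ∃ W : GL (Fin n) F, adj σ (W : Matrix (Fin n) (Fin n) F) * W = 1 ∧ W * A = A * W ∧
      (W : Matrix (Fin n) (Fin n) F).det * (C : Matrix (Fin n) (Fin n) F).det =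
        σ (C : Matrix (Fin n) (Fin n) F).det := by
  have hI := isInvol_adj (n := n) hσ2
  set Cm : Matrix (Fin n) (Fin n) F := (C : Matrix (Fin n) (Fin n) F) with hCm
  set Am : Matrix (Fin n) (Fin n) F := (A : Matrix (Fin n) (Fin n) F) with hAm
  have hC' : Commute Cm Am := congrArg Units.val hC
  have hAA : Am * adj σ Am = 1 := mul_eq_one_comm.1 hA
  have hCs : Commute (adj σ Cm) Am := by
    have h1 : adj σ Am * adj σ Cm = adj σ Cm * adj σ Am := by rw [← hI.map_mul, hC'.eq, hI.map_mul]
    show adj σ Cm * Am = Am * adj σ Cm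
    calc adj σ Cm * Am = Am * adj σ Am * adj σ Cm * Am := by rw [hAA, one_mul]
      _ = Am * (adj σ Cm * (adj σ Am * Am)) := by rw [mul_assoc Am, h1]; noncomm_ring
      _ = Am * adj σ Cm := by rw [hA, mul_one]
  set a := adj σ Cm * Cm with ha
  have haA : Commute Am a := (hCs.mul_left hC').symm
  have hadj : adj σ a = a := by rw [ha, hI.map_mul, hI.invol]
  obtain ⟨c, hcu, hc, hcc⟩ := factor hσne hσ2 hadj ((isUnit_adj C).mul C.isUnit)
  have hcA : Commute c Am := (hcc _ haA).symm
  have hca : Commute c a := (hcc a (Commute.refl a)).symm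
  have hcs : Commute (adj σ c) c := hcc _ (by
    show adj σ c * a = a * adj σ c
    conv_lhs => rw [← hadj]
    conv_rhs => rw [← hadj]
    rw [← hI.map_mul, ← hI.map_mul, hca.eq])
  let cu : GL (Fin n) F := hcu.unit
  have hcuv : (cu : Matrix (Fin n) (Fin n) F) = c := rfl
  let Cs : GL (Fin n) F := (isUnit_adj (σ := σ) C).unit
  have hCsv : (Cs : Matrix (Fin n) (Fin n) F) = adj σ Cm := rfl
  -- the two unitary elements
  let U : GL (Fin n) F := C * cu⁻¹
  let U' : GL (Fin n) F := Cs * (C * cu * C⁻¹)⁻¹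
  have hU : adj σ (U : Matrix (Fin n) (Fin n) F) * U = 1 := by
    have h1 : (c : Matrix (Fin n) (Fin n) F) * ((cu⁻¹ : GL (Fin n) F) : Matrix (Fin n) (Fin n) F) = 1 := cu.mul_inv
    show adj σ (Cm * _) * (Cm * _) = 1
    rw [hI.map_mul, mul_assoc, ← mul_assoc (adj σ Cm), ← ha, ← hc, mul_assoc, h1, mul_one, ← hI.map_mul, h1,
      hI.map_one]
  set d : Matrix (Fin n) (Fin n) F := ((C * cu * C⁻¹ : GL (Fin n) F) : Matrix (Fin n) (Fin n) F) with hd
  have hdd : adj σ d * d = Cm * adj σ Cm := by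
    set Ci : Matrix (Fin n) (Fin n) F := ((C⁻¹ : GL (Fin n) F) : Matrix (Fin n) (Fin n) F) with hCi
    have hCCi : Cm * Ci = 1 := C.mul_inv
    have hdv : d = Cm * c * Ci := rfl
    rw [hdv, hI.map_mul, hI.map_mul]
    calc adj σ Ci * (adj σ c * adj σ Cm) * (Cm * c * Ci) = adj σ Ci * (adj σ c * a * c) * Ci := by
          rw [ha]; noncomm_ring
      _ = adj σ Ci * (a * a) * Ci := by
          have hcsa : adj σ c * a = a * adj σ c := by
            conv_lhs => rw [← hadj]
            conv_rhs => rw [← hadj]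
            rw [← hI.map_mul, ← hI.map_mul, hca.eq]
          rw [hcsa, mul_assoc a, hc]
      _ = adj σ (Cm * Ci) * Cm * adj σ Cm * (Cm * Ci) := by rw [ha, hI.map_mul]; noncomm_ring
      _ = Cm * adj σ Cm := by rw [hCCi, hI.map_one, one_mul, mul_one]
  have hU' : adj σ (U' : Matrix (Fin n) (Fin n) F) * U' = 1 := by
    have h1 : d * (((C * cu * C⁻¹)⁻¹ : GL (Fin n) F) : Matrix (Fin n) (Fin n) F) = 1 := Units.mul_inv _
    show adj σ (adj σ Cm * _) * (adj σ Cm * _) = 1
    rw [hI.map_mul, hI.invol, mul_assoc, ← mul_assoc Cm, ← hdd, mul_assoc (adj σ d), h1, mul_one, ← hI.map_mul,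
      h1, hI.map_one]
  have hcu' : cu * A = A * cu := Units.ext hcA.eq
  have hCs' : Cs * A = A * Cs := Units.ext hCs.eq
  have hUA : Commute U A := (show Commute C A from hC).mul_left (show Commute cu A from hcu').inv_left
  have hU'A : Commute U' A :=
    (show Commute Cs A from hCs').mul_left
      ((((show Commute C A from hC).mul_left (show Commute cu A from hcu')).mul_left
        (show Commute C A from hC).inv_left)).inv_left
  refine ⟨U' * U⁻¹, ?_, (hU'A.mul_left hUA.inv_left).eq, ?_⟩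
  · have hUi : adj σ ((U⁻¹ : GL (Fin n) F) : Matrix (Fin n) (Fin n) F) *
        ((U⁻¹ : GL (Fin n) F) : Matrix (Fin n) (Fin n) F) = 1 := by
      have h1 : (U : Matrix (Fin n) (Fin n) F) * ((U⁻¹ : GL (Fin n) F) : Matrix (Fin n) (Fin n) F) = 1 := U.mul_inv
      have h2 := congrArg (fun Z => adj σ ((U⁻¹ : GL (Fin n) F) : Matrix (Fin n) (Fin n) F) * Z *
        ((U⁻¹ : GL (Fin n) F) : Matrix (Fin n) (Fin n) F)) hU
      simp only [mul_one] at h2
      rw [← h2, ← mul_assoc, ← hI.map_mul, h1, hI.map_one, one_mul, h1]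
    rw [Units.val_mul, hI.map_mul, mul_assoc, ← mul_assoc (adj σ (U' : Matrix (Fin n) (Fin n) F)), hU', one_mul,
      hUi]
  · have hprod : U' * U⁻¹ * C = Cs * (C * cu * C⁻¹)⁻¹ * cu * C⁻¹ * C := by
      show Cs * (C * cu * C⁻¹)⁻¹ * (C * cu⁻¹)⁻¹ * C = _
      group
    have := congrArg (fun g : GL (Fin n) F => Matrix.GeneralLinearGroup.det g) hprod
    simp only [map_mul, map_inv, inv_mul_cancel_right, mul_inv_cancel_comm] at this
    have := congrArg Units.val this
    simp only [Units.val_mul, Matrix.GeneralLinearGroup.val_det_apply] at this ⊢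
    rw [hCsv, det_adj] at this
    rw [Matrix.det_mul, ← this, ← map_inv, Matrix.GeneralLinearGroup.val_det_apply]

end CfsgLib.FgsC.SUClasses
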