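import Cfsg.Agent.Lib.FgsC.SUClasses.Poly
import Cfsg.Agent.Lib.KnownB.UnitaryConj

/-!
Every fixed monic polynomial with constant term `(-1)^n` is the characteristic polynomial of an element of
`SU_n(q)`.
-/

set_option autoImplicit false

universe u

namespace CfsgLib.FgsC.SUClasses

open Polynomial CfsgLib.KnownB.UnitaryConj

variable {F : Type u} [Field F] {q : ℕ} {σ : F →+* F} (hσ : ∀ x, σ x = x ^ q) (hσne : σ ≠ RingHom.id F)
  (hσ2 : ∀ x, σ (σ x) = x)

include hσ hσne hσ2 in
theorem exists_su_charpoly [Finite F] {i : ℕ} {f : F[X]} (hm : f.Monic) (hd : f.natDegree = i + 1)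
    (h0 : f.coeff 0 = (-1) ^ (i + 1)) (ht : tl σ f = f) :
    ∃ x : Cfsg.SU (i + 1) F q,
      ((x : Matrix.SpecialLinearGroup (Fin (i + 1)) F) : Matrix (Fin (i + 1)) (Fin (i + 1)) F).charpoly = f := by
  classical
  have hc0 : f.coeff 0 ≠ 0 := by rw [h0]; exact pow_ne_zero _ (neg_ne_zero.2 one_ne_zero)
  set R := AdjoinRoot f
  set r : R := AdjoinRoot.root f with hr
  haveI : Nontrivial R := AdjoinRoot.nontrivial f (by
    rw [degree_eq_natDegree hm.ne_zero, hd]; exact_mod_cast Nat.succ_ne_zero i)
  -- the inverse of the root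
  set ri : R := -((f.coeff 0)⁻¹ • aeval r f.divX) with hri
  have hrri : r * ri = 1 := by
    have h1 : r * aeval r f.divX + algebraMap F R (f.coeff 0) = 0 := by
      have h2 := congrArg (aeval r) (X_mul_divX_add f)
      rw [map_add, map_mul, aeval_X, aeval_C, show aeval r f = 0 from AdjoinRoot.aeval_eq f ▸ AdjoinRoot.mk_self] at h2
      exact h2
    rw [hri, mul_neg, mul_smul_comm, eq_neg_of_add_eq_zero_left h1, smul_neg, neg_neg, Algebra.smul_def,
      ← map_mul, inv_mul_cancel₀ hc0, map_one]
  letI : Invertible ri := ⟨r, hrri, by rw [mul_comm]; exact hrri⟩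
  have hroot : f.eval₂ ((algebraMap F R).comp σ) ri = 0 := by
    rw [← eval₂_map]
    have h1 := eval₂_reverse_mul_pow (algebraMap F R) ri (f.map σ)
    have h2 : (f.map σ).reverse = C (σ (f.coeff 0)) * f := by
      conv_rhs => arg 2; rw [← ht]
      rw [tl, ← mul_assoc, ← C_mul, mul_inv_cancel₀ ((map_ne_zero σ).2 hc0), C_1, one_mul]
    rw [h2, eval₂_mul, show (⅟ri : R) = r from rfl, ← aeval_def r f,
      show aeval r f = 0 from AdjoinRoot.aeval_eq f ▸ AdjoinRoot.mk_self, mul_zero, zero_mul] at h1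
    exact h1.symm
  let bar : R →+* R := AdjoinRoot.lift ((algebraMap F R).comp σ) ri hroot
  have hbar_of : ∀ a : F, bar (algebraMap F R a) = algebraMap F R (σ a) := fun a => by
    rw [AdjoinRoot.algebraMap_eq]
    exact AdjoinRoot.lift_of _
  have hbar_r : bar r = ri := AdjoinRoot.lift_root _
  have hbar_ri : bar ri = r := by
    have h1 : bar r * bar ri = 1 := by rw [← map_mul, hrri, map_one]
    rw [hbar_r] at h1
    calc bar ri = r * ri * bar ri := by rw [hrri, one_mul]
      _ = r := by rw [mul_assoc, h1, mul_one]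
  have hbar2 : ∀ x, bar (bar x) = x := by
    intro x
    obtain ⟨g, rfl⟩ := AdjoinRoot.mk_surjective x
    have h : (bar.comp bar).comp (AdjoinRoot.mk f) = AdjoinRoot.mk f := by
      refine Polynomial.ringHom_ext (fun a => ?_) ?_
      · show bar (bar (AdjoinRoot.mk f (C a))) = AdjoinRoot.mk f (C a)
        rw [AdjoinRoot.mk_C, ← AdjoinRoot.algebraMap_eq, hbar_of, hbar_of, hσ2]
      · show bar (bar (AdjoinRoot.mk f X)) = AdjoinRoot.mk f X
        rw [AdjoinRoot.mk_X, ← hr, hbar_r, hbar_ri]
    exact RingHom.congr_fun h g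
  have hbar_smul : ∀ (a : F) (x : R), bar (a • x) = σ a • bar x := fun a x => by
    rw [Algebra.smul_def, map_mul, hbar_of, ← Algebra.smul_def]
  -- a linear form with nondegenerate trace pairing
  let lam : R →ₗ[F] F := (lcoeff F i).comp (AdjoinRoot.modByMonicHom hm)
  have hnd : ∀ z : R, (∀ y, lam (y * z) = 0) → z = 0 := by
    intro z hz
    by_contra hne
    set s := AdjoinRoot.modByMonicHom hm z with hs
    have hsz : AdjoinRoot.mk f s = z := AdjoinRoot.mk_leftInverse hm z
    have hs0 : s ≠ 0 := fun h => hne (by rw [← hsz, h, map_zero])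
    have hst : s.natDegree ≤ i := by
      obtain ⟨g, hg⟩ := AdjoinRoot.mk_surjective z
      have h1 : s = g %ₘ f := by rw [hs, ← hg, AdjoinRoot.modByMonicHom_mk]
      have := natDegree_modByMonic_lt g hm (fun h => by rw [h, natDegree_one] at hd; omega)
      rw [← h1, hd] at this
      omega
    have h2 := hz (r ^ (i - s.natDegree))
    rw [← hsz, hr, ← AdjoinRoot.mk_X, ← map_pow, ← map_mul] at h2
    simp only [lam, LinearMap.comp_apply, lcoeff_apply] at h2
    erw [AdjoinRoot.modByMonicHom_mk hm] at h2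
    rw [(modByMonic_eq_self_iff hm).2 (by
        rw [degree_eq_natDegree hm.ne_zero, hd, degree_eq_natDegree (mul_ne_zero (pow_ne_zero _ X_ne_zero) hs0)]
        rw [natDegree_mul (pow_ne_zero _ X_ne_zero) hs0, natDegree_X_pow]
        exact_mod_cast (by omega : i - s.natDegree + s.natDegree < i + 1)),
      mul_comm, coeff_mul_X_pow', if_pos (Nat.sub_le _ _), Nat.sub_sub_self hst] at h2
    exact hs0 (leadingCoeff_eq_zero.1 h2)
  -- the matrix of the root
  let pb := AdjoinRoot.powerBasis hm.ne_zero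
  have hdim : pb.dim = i + 1 := (AdjoinRoot.powerBasis_dim _).trans hd
  let b : Module.Basis (Fin (i + 1)) F R := pb.basis.reindex (finCongr hdim)
  let M : Matrix (Fin (i + 1)) (Fin (i + 1)) F := Algebra.leftMulMatrix b r
  have hM : M.charpoly = f := by
    have h1 : M = (Algebra.leftMulMatrix pb.basis pb.gen).reindex (finCongr hdim) (finCongr hdim) := by
      ext a c
      simp [M, b, pb, Algebra.leftMulMatrix_eq_repr_mul, hr]
    rw [h1, Matrix.charpoly_reindex, charpoly_leftMulMatrix,
      AdjoinRoot.minpoly_powerBasis_gen_of_monic hm]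
  have hdet : M.det = 1 := by
    rw [Matrix.det_eq_sign_charpoly_coeff, hM, Fintype.card_fin, h0, ← mul_pow, neg_mul_neg, one_mul, one_pow]
  have hMb : ∀ c, r * b c = ∑ e, M e c • b e := fun c => by
    conv_lhs => rw [← b.sum_repr (r * b c)]
    simp [M, Algebra.leftMulMatrix_eq_repr_mul]
  -- the invariant sesquilinear form
  let P : Matrix (Fin (i + 1)) (Fin (i + 1)) F := Matrix.of fun a c => lam (bar (b a) * b c)
  have hPinj : Function.Injective P.mulVec := by
    rw [← Matrix.coe_mulVecLin, ← LinearMap.ker_eq_bot, LinearMap.ker_eq_bot']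
    intro v hv
    set z := ∑ e, v e • b e with hz
    have h1 : ∀ a, lam (bar (b a) * z) = 0 := fun a => by
      have := congrFun hv a
      rw [hz, Finset.mul_sum, map_sum]
      simpa [P, Matrix.mulVec, dotProduct, mul_comm] using this
    have h2 : ∀ y, lam (y * z) = 0 := fun y => by
      rw [← hbar2 y, ← b.sum_repr (bar y), map_sum, Finset.sum_mul, map_sum]
      exact Finset.sum_eq_zero fun a _ => by rw [hbar_smul, smul_mul_assoc, map_smul, h1, smul_zero]
    have h3 := hnd z h2
    funext e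
    exact Fintype.linearIndependent_iff.1 b.linearIndependent v h3 e
  have hinv : adj σ M * P * M = P := by
    ext a d
    have h1 : bar (r * b a) * (r * b d) = bar (b a) * b d := by
      rw [map_mul, hbar_r]
      calc ri * bar (b a) * (r * b d) = r * ri * (bar (b a) * b d) := by ring
        _ = _ := by rw [hrri, one_mul]
    show _ = lam (bar (b a) * b d)
    rw [← h1, hMb, hMb, map_sum, Finset.sum_mul, map_sum]
    simp only [Matrix.mul_apply, Finset.sum_mul, Finset.mul_sum, map_sum, adj, Matrix.transpose_apply,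
      Matrix.map_apply, P, Matrix.of_apply]
    rw [Finset.sum_comm]
    refine Finset.sum_congr rfl fun e _ => ?_
    rw [Finset.mul_sum, map_sum]
    refine Finset.sum_congr rfl fun c _ => ?_
    rw [hbar_smul, smul_mul_assoc, map_smul, mul_smul_comm, map_smul, smul_eq_mul, smul_eq_mul]
    ring
  have hPu : IsUnit P := Matrix.mulVec_injective_iff_isUnit.1 hPinj
  let A : GL (Fin (i + 1)) F := Matrix.GeneralLinearGroup.mkOfDetNeZero M (by rw [hdet]; exact one_ne_zero)
  obtain ⟨D, hD⟩ := exists_unitary_conj hσne hσ2 (A := A) (P := hPu.unit) hinv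
  set B : GL (Fin (i + 1)) F := D * A * D⁻¹ with hB
  have hBc : (B : Matrix (Fin (i + 1)) (Fin (i + 1)) F).charpoly = f := by
    rw [hB, Units.val_mul, Units.val_mul, Matrix.coe_units_inv, Matrix.charpoly_units_conj]
    exact hM
  have hBd : (B : Matrix (Fin (i + 1)) (Fin (i + 1)) F).det = 1 := by
    rw [Matrix.det_eq_sign_charpoly_coeff, hBc, Fintype.card_fin, h0, ← mul_pow, neg_mul_neg, one_mul, one_pow]
  let S : Matrix.SpecialLinearGroup (Fin (i + 1)) F := ⟨(B : Matrix (Fin (i + 1)) (Fin (i + 1)) F), hBd⟩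
  refine ⟨⟨S, ?_⟩, hBc⟩
  exact (mem_GU_iff_adj hσ2 hσ (Matrix.SpecialLinearGroup.toGL S)).2 hD

end CfsgLib.FgsC.SUClasses
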