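import Cfsg.Agent.Lib.FgsC.SUClasses.Classes
import Cfsg.Agent.Lib.FgsC.SUClasses.Lower

/-!
`q^(n-1) ≤ k(SU_n(q)) ≤ 8.26 q^(n-1)`.
-/

set_option autoImplicit false

universe u

namespace CfsgLib.FgsC.SUClasses

open Polynomial Finset

theorem sdTupleCount_small :
    sdTupleCount 2 3 1 3 = 24 ∧ sdTupleCount 2 1 1 1 = 3 := by
  constructor <;> decide

theorem sdTupleCount_one (q : ℕ) : sdTupleCount q 1 1 1 = q + 1 := by
  simp [sdTupleCount, Finset.sum_range_succ, sdCount]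

theorem sum_bound_two (n : ℕ) (hn : 2 ≤ n) :
    100 * (sdTupleCount 2 n 1 n + ∑ d ∈ (Nat.gcd n 3).divisors.erase 1,
      (d ^ 2 - 1) * sdTupleCount 2 (n / d) 1 (n / d)) ≤ 826 * (3 * 2 ^ (n - 1)) := by
  have h1 := sdTupleCount_two_le n n
  have hpow : 2 ^ n = 2 * 2 ^ (n - 1) := by rw [← pow_succ', Nat.sub_add_cancel (by omega)]
  rcases (Nat.dvd_prime Nat.prime_three).1 (Nat.gcd_dvd_right n 3) with h | h
  · rw [h, Nat.divisors_one, Finset.erase_singleton, Finset.sum_empty, add_zero]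
    omega
  · have hdvd : 3 ∣ n := h ▸ Nat.gcd_dvd_left n 3
    rw [h, show (3 : ℕ).divisors.erase 1 = {3} by decide, Finset.sum_singleton]
    obtain ⟨m, rfl⟩ := hdvd
    rcases Nat.lt_or_ge m 2 with hm | hm
    · obtain rfl : m = 1 := by omega
      obtain ⟨e1, e2⟩ := sdTupleCount_small
      norm_num [e1, e2]
    rw [Nat.mul_div_cancel_left m (by norm_num)]
    have h2 := sdTupleCount_two_le m m
    have h3 : 16 * 2 ^ m ≤ 2 ^ (3 * m) := by
      rw [show (16 : ℕ) = 2 ^ 4 by norm_num, ← pow_add]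
      exact Nat.pow_le_pow_right (by norm_num) (by omega)
    norm_num
    omega

theorem top_term_le {q : ℕ} (hq : 3 ≤ q) {n : ℕ} (hn : 2 ≤ n) : (n ^ 2 - 1) * (q + 1) ≤ 2 * q ^ n := by
  induction n, hn using Nat.le_induction with
  | base =>
    show 3 * (q + 1) ≤ 2 * q ^ 2
    nlinarith
  | succ n hn ih =>
    have h1 : (n + 1) ^ 2 - 1 ≤ 3 * (n ^ 2 - 1) := by
      have h2 : 2 * n ≤ n ^ 2 := by rw [sq]; exact Nat.mul_le_mul_right n hn
      have h3 : (n + 1) ^ 2 = n ^ 2 + 2 * n + 1 := by ring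
      have h4 : 4 ≤ n ^ 2 := by rw [sq]; exact Nat.mul_le_mul hn hn
      omega
    calc ((n + 1) ^ 2 - 1) * (q + 1) ≤ 3 * (n ^ 2 - 1) * (q + 1) := Nat.mul_le_mul_right _ h1
      _ ≤ q * ((n ^ 2 - 1) * (q + 1)) := by rw [mul_assoc]; exact Nat.mul_le_mul_right _ hq
      _ ≤ q * (2 * q ^ n) := Nat.mul_le_mul_left _ ih
      _ = 2 * q ^ (n + 1) := by ring

theorem sq_sub_one_le : ∀ t : ℕ, (t + 2) ^ 2 - 1 ≤ 3 * 4 ^ t
  | 0 => by norm_num
  | t + 1 => by
    have h := sq_sub_one_le t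
    have h1 : 4 ^ (t + 1) = 4 * 4 ^ t := pow_succ' 4 t
    have h2 : (t + 1 + 2) ^ 2 = (t + 2) ^ 2 + 2 * (t + 2) + 1 := by ring
    have h3 : 2 * (t + 2) ≤ (t + 2) ^ 2 := by rw [sq]; exact Nat.mul_le_mul_right _ (by omega)
    have h4 : 1 ≤ 4 ^ t := Nat.one_le_pow _ _ (by norm_num)
    omega

theorem small_terms_le {q n : ℕ} (hq : 3 ≤ q) (S : Finset ℕ) (hS : ∀ d ∈ S, 2 ≤ d ∧ d ∣ n ∧ d ≠ n) (hn : n ≠ 0) :
    5 * ∑ d ∈ S, (d ^ 2 - 1) * q ^ (n / d) ≤ 3 * q ^ n := by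
  rw [← Nat.cast_le (α := ℝ)]
  push_cast
  have hqn : (0 : ℝ) ≤ (q : ℝ) ^ n := by positivity
  have hterm : ∀ d ∈ S, (((d ^ 2 - 1 : ℕ) : ℝ) * (q : ℝ) ^ (n / d)) ≤ (q : ℝ) ^ n * (1 / 3) * (4 / 9) ^ (d - 2) := by
    intro d hd
    obtain ⟨h2, ⟨m, hm⟩, hne⟩ := hS d hd
    obtain ⟨t, rfl⟩ : ∃ t, d = t + 2 := ⟨d - 2, by omega⟩
    have hm2 : 2 ≤ m := by
      rcases m with _ | _ | m
      · simp at hm; omega
      · simp at hm; omega
      · omega
    have hexp : m + 2 * (t + 1) ≤ n := by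
      have h1 : t * 2 ≤ t * m := Nat.mul_le_mul_left t hm2
      have h2 : n = t * m + 2 * m := by rw [hm]; ring
      omega
    have hA : q ^ m * 9 ^ (t + 1) ≤ q ^ n := by
      calc q ^ m * 9 ^ (t + 1) ≤ q ^ m * (q ^ 2) ^ (t + 1) := Nat.mul_le_mul_left _
            (Nat.pow_le_pow_left (le_trans (by norm_num) (Nat.pow_le_pow_left hq 2)) _)
        _ = q ^ (m + 2 * (t + 1)) := by rw [← pow_mul, ← pow_add]
        _ ≤ q ^ n := Nat.pow_le_pow_right (by omega) hexp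
    have hB := sq_sub_one_le t
    have hAB : ((t + 2) ^ 2 - 1) * (q ^ m * 9 ^ (t + 1)) ≤ 3 * 4 ^ t * q ^ n := Nat.mul_le_mul hB hA
    rw [← Nat.cast_le (α := ℝ)] at hAB
    push_cast at hAB
    rw [hm, Nat.mul_div_cancel_left m (by omega), Nat.add_sub_cancel, ← hm, div_pow]
    rw [mul_one_div, div_mul_div_comm, le_div_iff₀ (by positivity)]
    rw [pow_succ' (9 : ℝ) t] at hAB
    linarith
  calc (5 : ℝ) * ∑ d ∈ S, (((d ^ 2 - 1 : ℕ) : ℝ) * (q : ℝ) ^ (n / d))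
      ≤ 5 * ∑ d ∈ S, (q : ℝ) ^ n * (1 / 3) * (4 / 9) ^ (d - 2) := mul_le_mul_of_nonneg_left (Finset.sum_le_sum hterm) (by norm_num)
    _ = 5 * ((q : ℝ) ^ n * (1 / 3) * ∑ t ∈ S.image (fun d => d - 2), (4 / 9 : ℝ) ^ t) := by
        rw [Finset.sum_image fun a ha b hb hab => by
          have := (hS a ha).1
          have := (hS b hb).1
          omega, ← Finset.mul_sum]
    _ ≤ 5 * ((q : ℝ) ^ n * (1 / 3) * (9 / 5)) := by
        gcongr
        have hsum := hasSum_geometric_of_lt_one (show (0 : ℝ) ≤ 4 / 9 by norm_num) (by norm_num)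
        rw [show (1 - (4 / 9 : ℝ))⁻¹ = 9 / 5 by norm_num] at hsum
        exact sum_le_hasSum _ (fun t _ => by positivity) hsum
    _ = 3 * (q : ℝ) ^ n := by ring

theorem sum_bound_three {q n : ℕ} (hq : 3 ≤ q) (hn : 2 ≤ n) :
    100 * (sdTupleCount q n 1 n + ∑ d ∈ (Nat.gcd n (q + 1)).divisors.erase 1,
      (d ^ 2 - 1) * sdTupleCount q (n / d) 1 (n / d)) ≤ 826 * ((q + 1) * q ^ (n - 1)) := by
  set S := (Nat.gcd n (q + 1)).divisors.erase 1
  have hS : ∀ d ∈ S, 2 ≤ d ∧ d ∣ n := fun d hd => by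
    obtain ⟨h1, h2⟩ := Finset.mem_erase.1 hd
    have := Nat.pos_of_mem_divisors h2
    exact ⟨by omega, (Nat.mem_divisors.1 h2).1.trans (Nat.gcd_dvd_left _ _)⟩
  have hsplit := Finset.sum_filter_add_sum_filter_not S (fun d => d = n)
    (fun d => (d ^ 2 - 1) * sdTupleCount q (n / d) 1 (n / d))
  have htop : ∑ d ∈ S.filter (fun d => d = n), (d ^ 2 - 1) * sdTupleCount q (n / d) 1 (n / d) ≤ 2 * q ^ n := by
    refine (Finset.sum_le_sum_of_subset (show S.filter (fun d => d = n) ⊆ {n} from fun d hd =>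
      Finset.mem_singleton.2 (Finset.mem_filter.1 hd).2)).trans ?_
    rw [Finset.sum_singleton, Nat.div_self (by omega), sdTupleCount_one]
    exact top_term_le hq hn
  have hrest : 50 * ∑ d ∈ S.filter (fun d => ¬ d = n), (d ^ 2 - 1) * sdTupleCount q (n / d) 1 (n / d) ≤
      117 * q ^ n := by
    have h1 := small_terms_le (n := n) hq (S.filter fun d => ¬ d = n) (fun d hd =>
      ⟨(hS d (Finset.mem_filter.1 hd).1).1, (hS d (Finset.mem_filter.1 hd).1).2, (Finset.mem_filter.1 hd).2⟩)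
      (by omega)
    have h2 : 10 * ∑ d ∈ S.filter (fun d => ¬ d = n), (d ^ 2 - 1) * sdTupleCount q (n / d) 1 (n / d) ≤
        39 * ∑ d ∈ S.filter (fun d => ¬ d = n), (d ^ 2 - 1) * q ^ (n / d) := by
      rw [Finset.mul_sum, Finset.mul_sum]
      refine Finset.sum_le_sum fun d _ => ?_
      rw [mul_left_comm, mul_left_comm 39]
      exact Nat.mul_le_mul_left _ (sdTupleCount_three_le hq _ _)
    omega
  have hmain := sdTupleCount_three_le hq n n
  have hpow : q ^ n = q * q ^ (n - 1) := by rw [← pow_succ', Nat.sub_add_cancel (by omega)]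
  rw [← hsplit, add_mul, one_mul, ← hpow]
  omega

theorem card_su_bounds {F : Type u} [Field F] [Fintype F] (n q : ℕ) (hn : 2 ≤ n) (hF : Fintype.card F = q ^ 2) :
    q ^ (n - 1) ≤ Nat.card (ConjClasses (Cfsg.SU n F q)) ∧
      100 * Nat.card (ConjClasses (Cfsg.SU n F q)) ≤ 826 * q ^ (n - 1) := by
  classical
  have hF' : Nat.card F = q ^ 2 := by rw [Nat.card_eq_fintype_card, hF]
  obtain ⟨σ, hσ, hσne, hσ2⟩ := CfsgLib.Classical.exists_frob hF'
  have hq := CfsgLib.Classical.two_le_q hF'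
  refine ⟨?_, ?_⟩
  · obtain ⟨i, rfl⟩ : ∃ i, n = i + 1 := ⟨n - 1, by omega⟩
    rw [Nat.add_sub_cancel]
    have hc : ((-1 : F) ^ (i + 1)) ^ (q + 1) = 1 := by
      have h1 : (-1 : F) ^ (q + 1) = 1 := by
        rw [pow_succ', ← hσ, map_neg, map_one, neg_mul_neg, one_mul]
      rw [← pow_mul, mul_comm, pow_mul, h1, one_pow]
    obtain ⟨e, he⟩ := nonempty_sd_equiv hσ i
    let P : coefSet σ i ((-1 : F) ^ (i + 1)) → F[X] := fun v => (e.symm ⟨⟨_, hc⟩, v⟩).1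
    have hP0 : ∀ v, (P v).coeff 0 = (-1) ^ (i + 1) := fun v => by
      rw [← he, Equiv.apply_symm_apply]
    choose A hA using fun v => exists_su_charpoly hσ hσne hσ2 (e.symm ⟨⟨_, hc⟩, v⟩).2.1
      (e.symm ⟨⟨_, hc⟩, v⟩).2.2.1 (hP0 v) (e.symm ⟨⟨_, hc⟩, v⟩).2.2.2.2
    refine le_trans (le_of_eq (card_coefSet hF' hσne hσ2 i (mul_conj_eq_one hσ hc)).symm) ?_
    refine Nat.card_le_card_of_injective (fun v => ConjClasses.mk (A v)) fun v w h => ?_
    obtain ⟨c, hcc⟩ := isConj_iff.1 (ConjClasses.mk_eq_mk_iff_isConj.1 h)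
    have h1 : P v = P w := by
      rw [show P v = _ from (hA v).symm, show P w = _ from (hA w).symm, ← hcc,
        Subgroup.coe_mul, Subgroup.coe_mul, Subgroup.coe_inv,
        Matrix.SpecialLinearGroup.coe_mul, Matrix.SpecialLinearGroup.coe_mul, Matrix.SpecialLinearGroup.coe_inv]
      rw [Matrix.charpoly_mul_comm, ← mul_assoc, Matrix.adjugate_mul, c.1.2, one_smul, one_mul]
    have h2 := e.symm.injective (Subtype.ext h1)
    exact eq_of_heq (Sigma.mk.inj_iff.1 h2).2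
  · have h := card_classes_le_sum hF' hσ hσne hσ2 (n := n) (by omega)
    refine Nat.le_of_mul_le_mul_left (?_ : (q + 1) * (100 * _) ≤ (q + 1) * (826 * q ^ (n - 1))) (by omega)
    rw [mul_left_comm, mul_left_comm (q + 1) 826]
    refine (Nat.mul_le_mul_left 100 h).trans ?_
    rcases Nat.lt_or_ge q 3 with h3 | h3
    · obtain rfl : q = 2 := by omega
      exact sum_bound_two n hn
    · exact sum_bound_three h3 hn

end CfsgLib.FgsC.SUClasses
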