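import Cfsg.Agent.Lib.FgsC.SUClasses.Count
import Cfsg.Agent.Lib.FgsC.SUClasses.Invariant

/-!
The number of classes of `SU_n(q)` is bounded by the fixed tuples weighted by their splitting numbers.
-/

set_option autoImplicit false

universe u

namespace CfsgLib.FgsC.SUClasses

open Polynomial CfsgLib.FgsB.GLClassBound CfsgLib.FgsB.SLClassBound CfsgLib.KnownB.UnitaryConj
  CfsgLib.Classical

variable {F : Type u} [Field F] {n q : ℕ}

theorem pow_pred_mem_normOne [Finite F] (hF : Nat.card F = q ^ 2) (z : Fˣ) : z ^ (q - 1) ∈ normOne F q := by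
  show (z ^ (q - 1)) ^ (q + 1) = 1
  rw [← pow_mul, show (q - 1) * (q + 1) = Nat.card Fˣ by
    rw [card_units_field, hF, mul_comm, ← Nat.sq_sub_sq, one_pow]]
  exact pow_card_eq_one'

/-- `z ↦ z^(q-1)` onto the units of norm one. -/
noncomputable def toNormOne [Finite F] (hF : Nat.card F = q ^ 2) : Fˣ →* normOne F q :=
  (powMonoidHom (q - 1)).codRestrict (normOne F q) (pow_pred_mem_normOne hF)

theorem toNormOne_surjective [Finite F] (hF : Nat.card F = q ^ 2) : Function.Surjective (toNormOne hF) := by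
  have hq := two_le_q hF
  rw [← MonoidHom.range_eq_top]
  refine Subgroup.eq_top_of_card_eq _ ?_
  rw [card_normOne hF]
  have h : (toNormOne hF).range.map (normOne F q).subtype = (powMonoidHom (q - 1) : Fˣ →* Fˣ).range := by
    rw [MonoidHom.map_range]
    rfl
  rw [← Subgroup.card_map_of_injective (K := (toNormOne hF).range) (normOne F q).subtype_injective, h]
  have h1 := Subgroup.card_mul_index (powMonoidHom (q - 1) : Fˣ →* Fˣ).range
  have hm : Nat.card Fˣ = (q + 1) * (q - 1) := by rw [card_units_field, hF, ← Nat.sq_sub_sq, one_pow]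
  rw [IsCyclic.index_powMonoidHom_range, hm, Nat.gcd_eq_right (Dvd.intro_left _ rfl)] at h1
  exact Nat.eq_of_mul_eq_mul_right (by omega) h1

variable [Finite F] (hF : Nat.card F = q ^ 2)

/-- The determinants reached by the unitary centraliser of a matrix with tuple `g`. -/
noncomputable def detGroup (g : Fin n → F[X]) : Subgroup (normOne F q) :=
  (scaleHom g).range.map (toNormOne hF)

theorem detGroup_index [Fintype F] (g : Fin n → F[X]) :
    (detGroup hF g).index ∣ q + 1 ∧ ∀ i : Fin n, 0 < (g i).natDegree → (detGroup hF g).index ∣ 1 + (i : ℕ) := by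
  refine ⟨by rw [← card_normOne hF]; exact Subgroup.index_dvd_card _, fun i hi => ?_⟩
  exact (Subgroup.index_map_dvd _ (toNormOne_surjective hF)).trans ((splitNumber_dvd g).2 i hi)

variable {σ : F →+* F} (hσ : ∀ x, σ x = x ^ q) (hσne : σ ≠ RingHom.id F) (hσ2 : ∀ x, σ (σ x) = x)

include hσ hσne hσ2 in
theorem card_classes_le_pairs [Fintype F] :
    Nat.card (ConjClasses (Cfsg.SU n F q)) ≤
      Nat.card (Σ g : {g : sdTuples σ n 1 n // tupleDet g.1 = 1}, normOne F q ⧸ detGroup hF g.1.1) := by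
  classical
  haveI : Finite (sdTuples σ n 1 n) := (sdTuples_card hF hσ hσne hσ2 n 1 one_pos n).1.to_subtype
  choose ι hι p e hpe hsum hE using fun A : GL (Fin n) F => exists_divisors A
  let G := Cfsg.GU n F q
  have hmem : ∀ g : GL (Fin n) F, g ∈ G ↔ adj σ (g : Matrix (Fin n) (Fin n) F) * g = 1 := fun g =>
    mem_GU_iff_adj hσ2 hσ g
  let toG : Cfsg.SU n F q →* G :=
    (Matrix.SpecialLinearGroup.toGL.comp (Cfsg.SU n F q).subtype).codRestrict G fun x => x.2
  let cl : ConjClasses (Cfsg.SU n F q) → G := fun x => (ConjClasses.mk (toG x.out)).out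
  have hcl : ∀ x, IsConj (cl x) (toG x.out) := fun x =>
    ConjClasses.mk_eq_mk_iff_isConj.1 (Quotient.out_eq (ConjClasses.mk (toG x.out)))
  choose h hh using fun x => isConj_iff.1 (hcl x)
  let T : ConjClasses (Cfsg.SU n F q) → (Fin n → F[X]) := fun x =>
    tupleOf n (p (cl x : GL (Fin n) F)) (e (cl x : GL (Fin n) F))
  have hT : ∀ x, T x ∈ sdTuples σ n 1 n := fun x =>
    ⟨tupleOf_mem ⟨hpe _, hsum _⟩, fun i => tl_tupleOf hσ2 ((hmem _).1 (cl x).2) ⟨hpe _, hsum _⟩ (hE _) i⟩
  have hTd : ∀ x, tupleDet (T x) = 1 := fun x => by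
    rw [← det_eq_tupleDet ⟨hpe (cl x : GL (Fin n) F), hsum _⟩ (hE _)]
    have := congrArg (fun g : G => Matrix.GeneralLinearGroup.det (g : GL (Fin n) F)) (hh x)
    simp only [Subgroup.coe_mul, Subgroup.coe_inv, map_mul, map_inv, mul_inv_cancel_comm] at this
    rw [← Matrix.GeneralLinearGroup.val_det_apply, this]
    exact x.out.1.2
  have hdet : ∀ g : G, Matrix.GeneralLinearGroup.det (g : GL (Fin n) F) ∈ normOne F q := fun g => by
    have h1 := congrArg Matrix.det ((hmem _).1 g.2)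
    rw [Matrix.det_mul, det_adj, Matrix.det_one, hσ, ← pow_succ] at h1
    exact MonoidHom.mem_ker.2 (Units.ext h1)
  let detM : G →* normOne F q :=
    ((Matrix.GeneralLinearGroup.det).comp G.subtype).codRestrict (normOne F q) hdet
  refine Nat.card_le_card_of_injective (fun x => ⟨⟨⟨T x, hT x⟩, hTd x⟩, QuotientGroup.mk (detM (h x))⟩)
    fun x y hxy => ?_
  obtain ⟨h1, h2⟩ := Sigma.mk.inj_iff.1 hxy
  have hT' : T x = T y := congrArg (fun z => z.1.1) h1
  have hclxy : cl x = cl y := by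
    obtain ⟨g, hg⟩ := isConj_iff.1
      (isConj_of_tupleOf_eq ⟨hpe (cl x : GL (Fin n) F), hsum _⟩ ⟨hpe (cl y : GL (Fin n) F), hsum _⟩ (hE _) (hE _) hT')
    obtain ⟨u, hu, huA⟩ := exists_unitary_conjugator hσne hσ2 ((hmem _).1 (cl x).2) ((hmem _).1 (cl y).2)
      (h := g) (mul_inv_eq_iff_eq_mul.1 hg)
    have hc : IsConj (cl x) (cl y) := isConj_iff.2 ⟨⟨u, (hmem u).2 hu⟩, Subtype.ext (mul_inv_eq_iff_eq_mul.2 huA)⟩
    show (ConjClasses.mk (toG x.out)).out = (ConjClasses.mk (toG y.out)).out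
    rw [show ConjClasses.mk (toG x.out) = ConjClasses.mk (toG y.out) from
      ConjClasses.mk_eq_mk_iff_isConj.2 (((hcl x).symm.trans hc).trans (hcl y))]
  have h3 : (detM (h x))⁻¹ * detM (h y) ∈ detGroup hF (T x) := by
    revert h2
    generalize hg : detGroup hF (T y) = ψ
    rw [← hT'] at hg
    subst hg
    intro h2
    exact QuotientGroup.eq.1 (eq_of_heq h2)
  have hle : detGroup hF (T x) ≤ (Subgroup.centralizer ({cl x} : Set G)).map detM := by
    rw [detGroup, Subgroup.map_le_iff_le_comap]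
    rintro _ ⟨c, rfl⟩
    rw [Subgroup.mem_comap]
    show toNormOne hF (∏ i : Fin n, if 0 < ((T x) i).natDegree then c i ^ (1 + (i : ℕ)) else 1) ∈
      (Subgroup.centralizer ({cl x} : Set G)).map detM
    rw [map_prod]
    refine prod_mem fun i _ => ?_
    split_ifs with hi
    · obtain ⟨j, hj⟩ : ∃ j, e (cl x : GL (Fin n) F) j = (i : ℕ) + 1 := by
        by_contra hno
        push Not at hno
        simp only [T, tupleOf_apply] at hi
        rw [Finset.filter_false_of_mem fun j _ => hno j, Finset.prod_empty, natDegree_one] at hi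
        exact lt_irrefl _ hi
      obtain ⟨C, hC, hCd⟩ := exists_centralizer_det ⟨hpe (cl x : GL (Fin n) F), hsum _⟩ (hE _) j (c i)
      obtain ⟨W, hW, hWA, hWd⟩ := exists_unitary_centralizer_det hσ2 hσne ((hmem _).1 (cl x).2) hC
      refine ⟨⟨W, (hmem W).2 hW⟩, Subgroup.mem_centralizer_singleton_iff.2 (Subtype.ext hWA),
        Subtype.ext (Units.ext ?_)⟩
      show (W : Matrix (Fin n) (Fin n) F).det = ((c i ^ (1 + (i : ℕ))) ^ (q - 1) : Fˣ)
      rw [add_comm 1, ← hj, ← hCd, Units.val_pow_eq_pow_val, Matrix.GeneralLinearGroup.val_det_apply]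
      refine mul_right_cancel₀ (Matrix.GeneralLinearGroup.det_ne_zero C) ?_
      rw [hWd, hσ, ← pow_succ, Nat.sub_add_cancel (by have := two_le_q hF; omega)]
    · rw [map_one]; exact one_mem _
  obtain ⟨C, hC, hCd⟩ := hle h3
  rw [← Quotient.out_eq x, ← Quotient.out_eq y]
  refine ConjClasses.mk_eq_mk_iff_isConj.2 (isConj_iff.2 ?_)
  have hk : detM (h y * C⁻¹ * (h x)⁻¹) = 1 := by
    rw [map_mul, map_mul, map_inv, map_inv, hCd, mul_inv_rev, inv_inv, ← mul_assoc,
      mul_inv_cancel, one_mul, mul_inv_cancel]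
  have hC' : C⁻¹ * cl x * C = cl x := by
    rw [mul_assoc, ← Subgroup.mem_centralizer_singleton_iff.1 hC, inv_mul_cancel_left]
  let S : Matrix.SpecialLinearGroup (Fin n) F :=
    ⟨(((h y * C⁻¹ * (h x)⁻¹ : G) : GL (Fin n) F) : Matrix (Fin n) (Fin n) F),
      congrArg (fun z : normOne F q => ((z : Fˣ) : F)) hk⟩
  have hSmem : S ∈ Cfsg.SU n F q := (h y * C⁻¹ * (h x)⁻¹ : G).2
  have hS : toG ⟨S, hSmem⟩ = h y * C⁻¹ * (h x)⁻¹ := Subtype.ext (Units.ext rfl)
  have hinj : Function.Injective toG := fun a b hab => Subtype.ext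
    ((Matrix.SpecialLinearGroup.toGL_injective) (congrArg Subtype.val hab))
  refine ⟨⟨S, hSmem⟩, hinj ?_⟩
  rw [map_mul, map_mul, map_inv, hS]
  rw [← hh x, ← hh y, ← hclxy]
  calc _ = h y * (C⁻¹ * cl x * C) * (h y)⁻¹ := by group
    _ = _ := by rw [hC']

/-- Scale a fixed polynomial by `z`, multiplying the constant term by `z^(q-1)`. -/
noncomputable def sclUnit (q : ℕ) (z : Fˣ) (p : F[X]) : F[X] :=
  if 0 < p.natDegree then C ((z : F)⁻¹) * p + C (p.coeff 0 * ((z : F) ^ (q - 1) - (z : F)⁻¹)) +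
    C (1 - (z : F)⁻¹) * X ^ p.natDegree else p

omit [Finite F] in
theorem coeff_sclUnit {p : F[X]} (hm : p.Monic) (hd : 0 < p.natDegree) (z : Fˣ) (k : ℕ) :
    (sclUnit q z p).coeff k = if k = 0 then p.coeff 0 * (z : F) ^ (q - 1) else
      if k = p.natDegree then 1 else (z : F)⁻¹ * p.coeff k := by
  rw [sclUnit, if_pos hd, coeff_add, coeff_add, coeff_C_mul, coeff_C, coeff_C_mul_X_pow]
  rcases eq_or_ne k 0 with rfl | hk
  · rw [if_pos rfl, if_pos rfl, if_neg hd.ne]; ring
  rw [if_neg hk, if_neg hk]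
  rcases eq_or_ne k p.natDegree with rfl | hkd
  · rw [if_pos rfl, if_pos rfl, hm.coeff_natDegree]; ring
  · rw [if_neg hkd, if_neg hkd]; ring

omit [Finite F] in
theorem natDegree_sclUnit {p : F[X]} (hm : p.Monic) (z : Fˣ) :
    (sclUnit q z p).natDegree = p.natDegree ∧ (sclUnit q z p).Monic := by
  rcases Nat.eq_zero_or_pos p.natDegree with h0 | hd
  · rw [sclUnit, if_neg (by omega)]; exact ⟨rfl, hm⟩
  have hle : (sclUnit q z p).natDegree ≤ p.natDegree := by
    refine natDegree_le_iff_coeff_eq_zero.2 fun k hk => ?_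
    rw [coeff_sclUnit hm hd, if_neg (by omega), if_neg (by omega), coeff_eq_zero_of_natDegree_lt hk, mul_zero]
  have hc : (sclUnit q z p).coeff p.natDegree = 1 := by
    rw [coeff_sclUnit hm hd, if_neg (by omega), if_pos rfl]
  have heq : (sclUnit q z p).natDegree = p.natDegree :=
    le_antisymm hle (le_natDegree_of_ne_zero (by rw [hc]; exact one_ne_zero))
  exact ⟨heq, by rw [Monic, leadingCoeff, heq, hc]⟩

omit [Finite F] in
include hσ in
theorem sclUnit_fixed (hz : ∀ z : Fˣ, ((z : F) ^ (q - 1)) * σ ((z : F) ^ (q - 1)) = 1) (hq : 1 ≤ q)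
    {p : F[X]} (hm : p.Monic) (h0 : p.coeff 0 ≠ 0) (ht : tl σ p = p) (z : Fˣ) :
    (sclUnit q z p).coeff 0 ≠ 0 ∧ tl σ (sclUnit q z p) = sclUnit q z p := by
  rcases Nat.eq_zero_or_pos p.natDegree with h | hd
  · rw [sclUnit, if_neg (by omega)]; exact ⟨h0, ht⟩
  have hzq : (z : F) ^ (q - 1) ≠ 0 := pow_ne_zero _ z.ne_zero
  have hc0 : (sclUnit q z p).coeff 0 = p.coeff 0 * (z : F) ^ (q - 1) := by rw [coeff_sclUnit hm hd, if_pos rfl]
  have h0' : (sclUnit q z p).coeff 0 ≠ 0 := by rw [hc0]; exact mul_ne_zero h0 hzq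
  refine ⟨h0', Polynomial.ext fun k => ?_⟩
  have hdeg := (natDegree_sclUnit (q := q) hm z).1
  rcases Nat.lt_or_ge p.natDegree k with hk | hk
  · rw [coeff_eq_zero_of_natDegree_lt (by rw [natDegree_tl h0', hdeg]; exact hk),
      coeff_eq_zero_of_natDegree_lt (by rw [hdeg]; exact hk)]
  have hpk := congrArg (fun r : F[X] => r.coeff k) ht
  simp only [coeff_tl p hk] at hpk
  rw [coeff_tl _ (by rw [hdeg]; exact hk), hdeg, hc0]
  have hinv : (σ ((z : F) ^ (q - 1)))⁻¹ = (z : F) ^ (q - 1) := inv_eq_of_mul_eq_one_left (hz z)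
  rw [map_mul, mul_inv, hinv]
  rcases Nat.eq_zero_or_pos k with rfl | hk0
  · rw [Nat.sub_zero, hm.coeff_natDegree, map_one, mul_one] at hpk
    rw [Nat.sub_zero, coeff_sclUnit hm hd, if_neg (by omega), if_pos rfl, map_one, mul_one, hc0, hpk]
  rcases eq_or_lt_of_le hk with rfl | hk1
  · rw [Nat.sub_self, hc0, coeff_sclUnit hm hd, if_neg (by omega), if_pos rfl, map_mul]
    rw [Nat.sub_self] at hpk
    rw [hm.coeff_natDegree] at hpk
    linear_combination (z : F) ^ (q - 1) * σ ((z : F) ^ (q - 1)) * hpk + hz z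
  rw [coeff_sclUnit hm hd, coeff_sclUnit hm hd, if_neg (by omega), if_neg (by omega), if_neg (by omega),
    if_neg (by omega), map_mul, map_inv₀, hσ (z : F)]
  have e : (z : F) ^ (q - 1) * ((z : F) ^ q)⁻¹ = (z : F)⁻¹ := by
    rw [show (z : F) ^ q = (z : F) ^ (q - 1) * z by rw [← pow_succ, Nat.sub_add_cancel hq], mul_inv,
      ← mul_assoc, mul_inv_cancel₀ hzq, one_mul]
  linear_combination (σ (p.coeff 0))⁻¹ * σ (p.coeff (p.natDegree - k)) * e + (z : F)⁻¹ * hpk

/-- Scale a tuple. -/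
noncomputable def sclTuple (q : ℕ) (g : Fin n → F[X]) (z : Fin n → Fˣ) : Fin n → F[X] :=
  fun i => sclUnit q (z i) (g i)

include hF hσ in
theorem sclTuple_mem {g : Fin n → F[X]} (hg : g ∈ sdTuples σ n 1 n) (z : Fin n → Fˣ) :
    sclTuple q g z ∈ sdTuples σ n 1 n ∧ (∀ i, (sclTuple q g z i).natDegree = (g i).natDegree) ∧
      tupleDet (sclTuple q g z) = tupleDet g * (scaleHom g z : F) ^ (q - 1) := by
  have hz : ∀ z : Fˣ, ((z : F) ^ (q - 1)) * σ ((z : F) ^ (q - 1)) = 1 := fun z => by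
    rw [hσ, ← pow_succ']
    exact congrArg Units.val (pow_pred_mem_normOne hF z)
  have hq : 1 ≤ q := by have := two_le_q hF; omega
  have hfix := fun i => sclUnit_fixed hσ hz hq (hg.1.1 i).1 (hg.1.1 i).2 (hg.2 i) (z i)
  refine ⟨⟨⟨fun i => ⟨(natDegree_sclUnit (hg.1.1 i).1 _).2, (hfix i).1⟩, ?_⟩, fun i => (hfix i).2⟩,
    fun i => (natDegree_sclUnit (hg.1.1 i).1 _).1, ?_⟩
  · refine Eq.trans (Finset.sum_congr rfl fun i _ => ?_) hg.1.2
    rw [show (sclTuple q g z i).natDegree = (g i).natDegree from (natDegree_sclUnit (hg.1.1 i).1 _).1]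
  · rw [tupleDet, tupleDet, mul_assoc]
    congr 1
    rw [show scaleHom g z = ∏ i : Fin n, if 0 < (g i).natDegree then z i ^ (1 + (i : ℕ)) else 1 from rfl,
      Units.coe_prod, ← Finset.prod_pow, ← Finset.prod_mul_distrib]
    refine Finset.prod_congr rfl fun i _ => ?_
    split_ifs with hd
    · rw [show (sclTuple q g z i).coeff 0 = _ from coeff_sclUnit (hg.1.1 i).1 hd _ 0, if_pos rfl, mul_pow,
        Units.val_pow_eq_pow_val, ← pow_mul, ← pow_mul, mul_comm (q - 1)]
    · simp [sclTuple, sclUnit, hd]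

omit [Finite F] in
theorem sclTuple_injective {g g' : Fin n → F[X]} (hg : ∀ i, (g i).Monic) (hg' : ∀ i, (g' i).Monic)
    (z : Fin n → Fˣ) (h : sclTuple q g z = sclTuple q g' z) : g = g' := by
  funext i
  have hi : sclUnit q (z i) (g i) = sclUnit q (z i) (g' i) := congrFun h i
  have hd : (g i).natDegree = (g' i).natDegree := by
    rw [← (natDegree_sclUnit (q := q) (hg i) (z i)).1, hi, (natDegree_sclUnit (q := q) (hg' i) (z i)).1]
  rcases Nat.eq_zero_or_pos (g i).natDegree with h0 | hpos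
  · rw [(hg i).natDegree_eq_zero.1 h0, (hg' i).natDegree_eq_zero.1 (hd ▸ h0)]
  ext k
  have hk := congrArg (fun r : F[X] => r.coeff k) hi
  simp only [coeff_sclUnit (hg i) hpos, coeff_sclUnit (hg' i) (hd ▸ hpos), ← hd] at hk
  split_ifs at hk with h1 h2
  · subst h1
    exact mul_right_cancel₀ (pow_ne_zero _ (z i).ne_zero) hk
  · subst h2
    rw [(hg i).coeff_natDegree, hd, (hg' i).coeff_natDegree]
  · exact mul_left_cancel₀ (inv_ne_zero (z i).ne_zero) hk

include hσ hσne hσ2 in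
/-- Double counting by scaling. -/
theorem card_pairs_le [Fintype F] :
    (q + 1) * Nat.card (Σ g : {g : sdTuples σ n 1 n // tupleDet g.1 = 1}, normOne F q ⧸ detGroup hF g.1.1) ≤
      Nat.card (Σ g : sdTuples σ n 1 n, (normOne F q ⧸ detGroup hF g.1) × (normOne F q ⧸ detGroup hF g.1)) := by
  classical
  haveI : Finite (sdTuples σ n 1 n) := (sdTuples_card hF hσ hσne hσ2 n 1 one_pos n).1.to_subtype
  haveI := Fintype.ofFinite (sdTuples σ n 1 n)
  haveI := Fintype.ofFinite {g : sdTuples σ n 1 n // tupleDet g.1 = 1}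
  have hcard := card_normOne hF
  rw [Nat.card_sigma, Nat.card_sigma, Finset.mul_sum]
  simp only [Nat.card_prod, ← Subgroup.index_eq_card]
  have hl : ∀ g : {g : sdTuples σ n 1 n // tupleDet g.1 = 1},
      (q + 1) * (detGroup hF g.1.1).index =
        Nat.card (detGroup hF g.1.1) * ((detGroup hF g.1.1).index * (detGroup hF g.1.1).index) := by
    intro g
    rw [← mul_assoc, Subgroup.card_mul_index, hcard]
  rw [Finset.sum_congr rfl fun g _ => hl g]
  let pre : (g : {g : sdTuples σ n 1 n // tupleDet g.1 = 1}) → detGroup hF g.1.1 → (Fin n → Fˣ) :=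
    fun g t => Function.invFun ((toNormOne hF).comp (scaleHom g.1.1)) (t : normOne F q)
  have hpre : ∀ g t, toNormOne hF (scaleHom g.1.1 (pre g t)) = (t : normOne F q) := fun g t => by
    refine Function.invFun_eq (f := (toNormOne hF).comp (scaleHom g.1.1)) ?_
    obtain ⟨_, ⟨z, rfl⟩, hz⟩ := t.2
    exact ⟨z, hz⟩
  let sc : (Σ g : {g : sdTuples σ n 1 n // tupleDet g.1 = 1}, detGroup hF g.1.1) → sdTuples σ n 1 n :=
    fun x => ⟨_, (sclTuple_mem hF hσ x.1.1.2 (pre x.1 x.2)).1⟩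
  have hscdeg : ∀ g t i, ((sc ⟨g, t⟩).1 i).natDegree = (g.1.1 i).natDegree := fun g t =>
    (sclTuple_mem hF hσ g.1.2 (pre g t)).2.1
  have hgrp : ∀ {g g' : Fin n → F[X]}, (∀ i, (g i).natDegree = (g' i).natDegree) →
      detGroup hF g = detGroup hF g' := fun h => by rw [detGroup, detGroup, scaleHom_congr h]
  have hinj : Function.Injective sc := by
    rintro ⟨g, t⟩ ⟨g', t'⟩ e
    have e' : sclTuple q g.1.1 (pre g t) = sclTuple q g'.1.1 (pre g' t') := congrArg Subtype.val e
    have hT : (t : normOne F q) = (t' : normOne F q) := by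
      rw [← hpre g t, ← hpre g' t']
      refine Subtype.ext (Units.ext ?_)
      have := congrArg tupleDet e'
      rw [(sclTuple_mem hF hσ g.1.2 _).2.2, (sclTuple_mem hF hσ g'.1.2 _).2.2, g.2, g'.2, one_mul, one_mul] at this
      exact this
    have hdeg : ∀ i, (g.1.1 i).natDegree = (g'.1.1 i).natDegree := fun i => by
      rw [← hscdeg g t i, e, hscdeg]
    have hpp : pre g' t' = pre g t := by
      simp only [pre, scaleHom_congr hdeg, hT]
    rw [hpp] at e'
    have hg : g = g' := Subtype.ext (Subtype.ext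
      (sclTuple_injective (fun i => (g.1.2.1.1 i).1) (fun i => (g'.1.2.1.1 i).1) _ e'))
    subst hg
    rw [Subtype.ext hT]
  let f : sdTuples σ n 1 n → ℕ := fun g => (detGroup hF g.1).index * (detGroup hF g.1).index
  haveI : ∀ g : {g : sdTuples σ n 1 n // tupleDet g.1 = 1}, Fintype (detGroup hF g.1.1) :=
    fun g => Fintype.ofFinite _
  calc _ = ∑ x : (Σ g : {g : sdTuples σ n 1 n // tupleDet g.1 = 1}, detGroup hF g.1.1), f (sc x) := by
        rw [Fintype.sum_sigma]
        refine Finset.sum_congr rfl fun g _ => ?_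
        have hc : ∀ t, f (sc ⟨g, t⟩) =
            (detGroup hF g.1.1).index * (detGroup hF g.1.1).index := fun t => by
          simp only [f]
          rw [hgrp (hscdeg g t)]
        rw [Finset.sum_congr rfl fun t _ => hc t, Finset.sum_const, Finset.card_univ,
          ← Nat.card_eq_fintype_card, smul_eq_mul]
    _ = ∑ y ∈ Finset.univ.image sc, f y := (Finset.sum_image fun x _ y _ h => hinj h).symm
    _ ≤ ∑ y, f y := Finset.sum_le_sum_of_subset (Finset.subset_univ _)

include hF hσ hσne hσ2 in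
/-- Tuples supported on multiples of `d`. -/
theorem card_supported_le {d : ℕ} (hd : 0 < d) (hdn : d ∣ n) :
    Nat.card {g : sdTuples σ n 1 n // ∀ i : Fin n, 0 < (g.1 i).natDegree → d ∣ 1 + (i : ℕ)} ≤
      sdTupleCount q (n / d) 1 (n / d) := by
  classical
  obtain ⟨hfin, hcard⟩ := sdTuples_card hF hσ hσne hσ2 (n / d) 1 one_pos (n / d)
  haveI := hfin.to_subtype
  have hm : d * (n / d) = n := Nat.mul_div_cancel' hdn
  let at' : Fin (n / d) → Fin n := fun i => ⟨d * ((i : ℕ) + 1) - 1, by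
    have h1 : d * ((i : ℕ) + 1) ≤ d * (n / d) := Nat.mul_le_mul_left d (Nat.succ_le_of_lt i.2)
    have h2 : 1 ≤ d * ((i : ℕ) + 1) := Nat.mul_pos hd (Nat.succ_pos _)
    omega⟩
  have hat : ∀ i, 1 + ((at' i : Fin n) : ℕ) = d * (1 + (i : ℕ)) := fun i => by
    have h2 : 1 ≤ d * ((i : ℕ) + 1) := Nat.mul_pos hd (Nat.succ_pos _)
    show 1 + (d * ((i : ℕ) + 1) - 1) = _
    rw [add_comm 1 (i : ℕ)]
    omega
  have hinj : Function.Injective at' := fun i j h => Fin.ext (by
    have := congrArg (fun z : Fin n => 1 + (z : ℕ)) h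
    simp only [hat] at this
    have := Nat.eq_of_mul_eq_mul_left hd this
    omega)
  have hout : ∀ i : Fin n, d ∣ 1 + (i : ℕ) → ∃ j, at' j = i := fun i h => by
    obtain ⟨c, hc⟩ := h
    rcases c with _ | c
    · simp at hc
    have hlt : c < n / d := Nat.lt_of_mul_lt_mul_left (a := d) (by
      rw [hm]
      have := i.2
      rw [Nat.mul_succ] at hc
      omega)
    refine ⟨⟨c, hlt⟩, Fin.ext ?_⟩
    show d * (c + 1) - 1 = (i : ℕ)
    omega
  have hmem : ∀ g : {g : sdTuples σ n 1 n // ∀ i : Fin n, 0 < (g.1 i).natDegree → d ∣ 1 + (i : ℕ)},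
      (fun j => g.1.1 (at' j)) ∈ sdTuples σ (n / d) 1 (n / d) := fun g => by
    refine ⟨⟨fun j => g.1.2.1.1 (at' j), Nat.eq_of_mul_eq_mul_left hd ?_⟩, fun j => g.1.2.2 (at' j)⟩
    rw [hm, Finset.mul_sum]
    refine Eq.trans ?_ g.1.2.1.2
    rw [← Finset.sum_subset (Finset.subset_univ (Finset.univ.image at')) (fun i _ hi => ?_),
      Finset.sum_image fun x _ y _ h => hinj h]
    · exact Finset.sum_congr rfl fun j _ => by rw [hat, mul_assoc]
    · rcases Nat.eq_zero_or_pos (g.1.1 i).natDegree with h0 | hp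
      · rw [h0, mul_zero]
      · obtain ⟨j, hj⟩ := hout i (g.2 i hp)
        exact absurd (Finset.mem_image.2 ⟨j, Finset.mem_univ _, hj⟩) hi
  refine le_trans (Nat.card_le_card_of_injective
    (fun g => (⟨_, hmem g⟩ : sdTuples σ (n / d) 1 (n / d))) fun g g' h => ?_)
    ((le_of_eq (Nat.card_coe_set_eq _)).trans hcard)
  apply Subtype.ext; apply Subtype.ext; funext i
  rcases Nat.eq_zero_or_pos (g.1.1 i).natDegree with h0 | hp
  · rcases Nat.eq_zero_or_pos (g'.1.1 i).natDegree with h0' | hp'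
    · rw [(g.1.2.1.1 i).1.natDegree_eq_zero.1 h0, (g'.1.2.1.1 i).1.natDegree_eq_zero.1 h0']
    · obtain ⟨j, rfl⟩ := hout i (g'.2 i hp')
      exact congrFun (congrArg Subtype.val h) j
  · obtain ⟨j, rfl⟩ := hout i (g.2 i hp)
    exact congrFun (congrArg Subtype.val h) j

include hF hσ hσne hσ2 in
theorem card_classes_le_sum [Fintype F] (hn : 1 ≤ n) :
    (q + 1) * Nat.card (ConjClasses (Cfsg.SU n F q)) ≤
      sdTupleCount q n 1 n + ∑ d ∈ (Nat.gcd n (q + 1)).divisors.erase 1,
        (d ^ 2 - 1) * sdTupleCount q (n / d) 1 (n / d) := by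
  classical
  obtain ⟨hfin, hcard⟩ := sdTuples_card hF hσ hσne hσ2 n 1 one_pos n
  haveI := hfin.to_subtype
  haveI := Fintype.ofFinite (sdTuples σ n 1 n)
  refine ((Nat.mul_le_mul_left _ (card_classes_le_pairs hF hσ hσne hσ2)).trans
    (card_pairs_le hF hσ hσne hσ2)).trans ?_
  rw [Nat.card_sigma]
  simp only [Nat.card_prod, ← Subgroup.index_eq_card]
  have hone : ∀ g : sdTuples σ n 1 n, (detGroup hF g.1).index * (detGroup hF g.1).index ≤
      1 + ∑ d ∈ (Nat.gcd n (q + 1)).divisors.erase 1,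
        if ∀ i : Fin n, 0 < (g.1 i).natDegree → d ∣ 1 + (i : ℕ) then d ^ 2 - 1 else 0 := by
    intro g
    obtain ⟨hs1, hs2⟩ := detGroup_index hF g.1
    set s := (detGroup hF g.1).index
    rcases eq_or_ne s 1 with h1 | h1
    · rw [h1]; omega
    have hsn : s ∣ n := by
      refine (Finset.dvd_sum fun i _ => ?_).trans (dvd_of_eq g.2.1.2)
      rcases Nat.eq_zero_or_pos (g.1 i).natDegree with h0 | hp
      · rw [h0, mul_zero]; exact dvd_zero _
      · exact (hs2 i hp).mul_right _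
    have hmem : s ∈ (Nat.gcd n (q + 1)).divisors.erase 1 :=
      Finset.mem_erase.2 ⟨h1, Nat.mem_divisors.2 ⟨Nat.dvd_gcd hsn hs1, fun h => by
        have := (Nat.gcd_eq_zero_iff.1 h).1
        omega⟩⟩
    refine le_trans ?_ (Nat.add_le_add_left (Finset.single_le_sum
      (f := fun d => if ∀ i : Fin n, 0 < (g.1 i).natDegree → d ∣ 1 + (i : ℕ) then d ^ 2 - 1 else 0)
      (fun d _ => Nat.zero_le _) hmem) 1)
    rw [if_pos hs2, sq]
    omega
  refine (Finset.sum_le_sum fun g _ => hone g).trans ?_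
  rw [Finset.sum_add_distrib, Finset.sum_comm]
  refine Nat.add_le_add ?_ (Finset.sum_le_sum fun d hd => ?_)
  · rw [Finset.sum_const, smul_eq_mul, mul_one, Finset.card_univ, ← Nat.card_eq_fintype_card]
    exact (le_of_eq (Nat.card_coe_set_eq _)).trans hcard
  · obtain ⟨hd1, hd2⟩ := Finset.mem_erase.1 hd
    have hdvd := (Nat.mem_divisors.1 hd2).1
    rw [← Finset.sum_filter, Finset.sum_const, smul_eq_mul, mul_comm, ← Fintype.card_subtype,
      ← Nat.card_eq_fintype_card]
    exact Nat.mul_le_mul_left _ (card_supported_le hF hσ hσne hσ2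
      (Nat.pos_of_mem_divisors hd2) (hdvd.trans (Nat.gcd_dvd_left _ _)))

end CfsgLib.FgsC.SUClasses
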