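import Cfsg.Agent.Lib.FgsC.SUClasses.Poly

/-!
Counting tuples of fixed polynomials.
-/

set_option autoImplicit false

universe u

namespace CfsgLib.FgsC.SUClasses

open Polynomial Finset CfsgLib.FgsB.GLClassBound

/-- Number of tuples of fixed polynomials of weight `n`, the weights running over `[j, j + k)`. -/
def sdTupleCount (q : ℕ) : ℕ → ℕ → ℕ → ℕ
  | 0, _, n => if n = 0 then 1 else 0
  | k + 1, j, n => ∑ a ∈ range (n + 1),
      if j ∣ n - a then sdCount q ((n - a) / j) * sdTupleCount q k (j + 1) a else 0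

variable {F : Type u} [Field F]

/-- Tuples of fixed polynomials. -/
def sdTuples (σ : F →+* F) (k j n : ℕ) : Set (Fin k → F[X]) :=
  {g | g ∈ tupleSet F k j n ∧ ∀ i, tl σ (g i) = g i}

variable {σ : F →+* F} {q : ℕ}

theorem sdTuples_card [Finite F] (hF : Nat.card F = q ^ 2) (hσ : ∀ x, σ x = x ^ q) (hσne : σ ≠ RingHom.id F)
    (hσ2 : ∀ x, σ (σ x) = x) (k : ℕ) : ∀ j, 0 < j → ∀ n,
    (sdTuples σ k j n).Finite ∧ (sdTuples σ k j n).ncard ≤ sdTupleCount q k j n := by
  classical
  induction k with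
  | zero =>
    intro j _ n
    refine ⟨Set.toFinite _, ?_⟩
    rw [sdTupleCount]
    split_ifs with h
    · exact Set.ncard_le_one_of_subsingleton _
    · refine le_of_eq ((Set.ncard_eq_zero (Set.toFinite _)).2 (Set.eq_empty_iff_forall_notMem.2 fun g hg => h ?_))
      simpa using hg.1.2.symm
  | succ k ih =>
    intro j hj n
    let M : ℕ → Set F[X] := fun m => {p | p.Monic ∧ p.natDegree = m ∧ p.coeff 0 ≠ 0 ∧ tl σ p = p}
    let piece : ℕ → Set (Fin (k + 1) → F[X]) := fun a =>
      if j ∣ n - a then (fun x : F[X] × (Fin k → F[X]) => Fin.cons x.1 x.2) ''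
        (M ((n - a) / j) ×ˢ sdTuples σ k (j + 1) a) else ∅
    have hMfin : ∀ m, (M m).Finite := fun m => Set.finite_coe_iff.1 (card_sd hF hσ hσne hσ2 m).1
    have hsub : sdTuples σ (k + 1) j n ⊆ ⋃ a ∈ range (n + 1), piece a := by
      rintro g ⟨hg, hgt⟩
      have hs := hg.2
      rw [Fin.sum_univ_succ] at hs
      simp only [Fin.val_zero, add_zero, Fin.val_succ] at hs
      set a := ∑ i : Fin k, (j + ((i : ℕ) + 1)) * (g i.succ).natDegree with ha
      simp only [Set.mem_iUnion, Finset.mem_range]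
      refine ⟨a, by omega, ?_⟩
      have hna : n - a = j * (g 0).natDegree := by omega
      rw [show piece a = _ from if_pos ⟨_, hna⟩]
      refine ⟨(g 0, Fin.tail g), ⟨⟨(hg.1 0).1, ?_, (hg.1 0).2, hgt 0⟩, ⟨fun i => hg.1 i.succ, ?_⟩,
        fun i => hgt i.succ⟩, Fin.cons_self_tail g⟩
      · rw [hna, Nat.mul_div_cancel_left _ hj]
      · rw [ha]
        exact Finset.sum_congr rfl fun i _ => by rw [add_assoc, add_comm 1 (i : ℕ)]; rfl
    have hfin : ∀ a, (piece a).Finite := fun a => by
      simp only [piece]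
      split_ifs
      · exact ((hMfin _).prod (ih (j + 1) j.succ_pos a).1).image _
      · exact Set.finite_empty
    have hU : (⋃ a ∈ range (n + 1), piece a).Finite :=
      (range (n + 1)).finite_toSet.biUnion fun a _ => hfin a
    refine ⟨hU.subset hsub, (Set.ncard_le_ncard hsub hU).trans ?_⟩
    refine (Finset.set_ncard_biUnion_le _ _).trans ?_
    rw [sdTupleCount]
    refine Finset.sum_le_sum fun a _ => ?_
    simp only [piece]
    split_ifs
    · refine (Set.ncard_image_le ((hMfin _).prod (ih (j + 1) j.succ_pos a).1)).trans ?_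
      rw [Set.ncard_prod]
      exact Nat.mul_le_mul (le_of_eq ((Nat.card_coe_set_eq _).symm.trans (card_sd hF hσ hσne hσ2 _).2))
        (ih (j + 1) j.succ_pos a).2
    · simp

/-! ### The generating-function bound -/

section Series

/-- Weighted count. -/
noncomputable def sdWeight (q k j n : ℕ) : ℝ := (sdTupleCount q k j n : ℝ) / (q : ℝ) ^ n

/-- The Euler factor at `j`. -/
noncomputable def factorG (x : ℝ) (j : ℕ) : ℝ := (1 + x ^ j) / (1 - x ^ (j - 1))

theorem sdWeight_nonneg (q k j n : ℕ) : 0 ≤ sdWeight q k j n := by unfold sdWeight; positivity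

theorem sdWeight_succ {q : ℕ} (hq : 2 ≤ q) (k j n : ℕ) :
    sdWeight q (k + 1) j n = ∑ a ∈ range (n + 1),
      if j ∣ n - a then (sdCount q ((n - a) / j) : ℝ) / (q : ℝ) ^ (n - a) * sdWeight q k (j + 1) a else 0 := by
  rw [sdWeight, sdTupleCount, Nat.cast_sum, Finset.sum_div]
  refine Finset.sum_congr rfl fun a ha => ?_
  rw [Finset.mem_range] at ha
  split_ifs with h
  · rw [sdWeight, Nat.cast_mul, div_mul_div_comm, ← pow_add, Nat.sub_add_cancel (by omega)]
  · simp

theorem gsum_le {q : ℕ} (hq : 2 ≤ q) {j : ℕ} (hj : 2 ≤ j) {x : ℝ} (hx : x = 1 / (q : ℝ)) (M : ℕ) :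
    ∑ m ∈ range (M + 1), (sdCount q m : ℝ) / (q : ℝ) ^ (j * m) ≤ factorG x j := by
  have hq' : (2 : ℝ) ≤ q := by exact_mod_cast hq
  have hx0 : 0 < x := by rw [hx]; positivity
  have hx1 : x < 1 := by rw [hx, div_lt_one (by linarith)]; linarith
  set r := x ^ (j - 1) with hr
  have hr1 : r < 1 := pow_lt_one₀ hx0.le hx1 (by omega)
  have hr0 : 0 ≤ r := (pow_pos hx0 _).le
  have e : ∑ m ∈ range (M + 1), (sdCount q m : ℝ) / (q : ℝ) ^ (j * m) =
      1 + (1 + x) * r * ∑ m ∈ range M, r ^ m := by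
    rw [Finset.sum_range_succ', add_comm, Finset.mul_sum]
    congr 1
    · simp [sdCount]
    · refine Finset.sum_congr rfl fun m _ => ?_
      rw [sdCount, if_neg m.succ_ne_zero, Nat.add_sub_cancel, hr, mul_assoc, ← pow_succ', ← pow_mul, hx,
        one_div_pow, show j * (m + 1) = (j - 1) * (m + 1) + (m + 1) by
          obtain ⟨i, rfl⟩ : ∃ i, j = i + 1 := ⟨j - 1, by omega⟩
          rw [Nat.add_sub_cancel]; ring, pow_add _ ((j - 1) * (m + 1)), pow_succ _ m]
      push_cast
      field_simp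
  rw [e, factorG, le_div_iff₀ (by linarith)]
  have hg : (∑ m ∈ range M, r ^ m) * (1 - r) ≤ 1 := by
    rw [geom_sum_mul_neg]; linarith [pow_nonneg hr0 M]
  have hxj : x ^ j = x * r := by rw [hr, ← pow_succ', Nat.sub_add_cancel (by omega)]
  rw [hxj]
  have := mul_le_mul_of_nonneg_left hg (show 0 ≤ (1 + x) * r by positivity)
  nlinarith

theorem factorG_nonneg {x : ℝ} (hx0 : 0 ≤ x) (hx1 : x < 1) {j : ℕ} (hj : 2 ≤ j) : 1 ≤ factorG x j := by
  rw [factorG, le_div_iff₀ (by linarith [pow_lt_one₀ hx0 hx1 (show j - 1 ≠ 0 by omega)])]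
  linarith [pow_nonneg hx0 j, pow_nonneg hx0 (j - 1)]

theorem factorG_mono {x y : ℝ} (hx0 : 0 ≤ x) (hxy : x ≤ y) (hy : y < 1) {j : ℕ} (hj : 2 ≤ j) :
    factorG x j ≤ factorG y j := by
  have h1 := pow_lt_one₀ (hx0.trans hxy) hy (show j - 1 ≠ 0 by omega)
  exact div_le_div₀ (by linarith [pow_nonneg (hx0.trans hxy) j]) (by linarith [pow_le_pow_left₀ hx0 hxy j])
    (by linarith) (by linarith [pow_le_pow_left₀ hx0 hxy (j - 1)])

theorem sum_sdWeight_le {q : ℕ} (hq : 2 ≤ q) {x y : ℝ} (hx : x = 1 / (q : ℝ)) (hxy : x ≤ y) (hy : y < 1)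
    (k : ℕ) : ∀ j, 2 ≤ j → ∀ N, ∑ w ∈ range (N + 1), sdWeight q k j w ≤ ∏ i ∈ range k, factorG y (j + i) := by
  have hx0 : 0 ≤ x := by rw [hx]; positivity
  induction k with
  | zero =>
    intro j _ N
    have e : ∀ w, sdWeight q 0 j w = if w = 0 then 1 else 0 := fun w => by
      rcases Nat.eq_zero_or_pos w with rfl | hw
      · simp [sdWeight, sdTupleCount]
      · simp [sdWeight, sdTupleCount, hw.ne']
    simp only [e]
    simp
  | succ k ih =>
    intro j hj N
    have hG : ∀ M, ∑ m ∈ range (M + 1), (sdCount q m : ℝ) / (q : ℝ) ^ (j * m) ≤ factorG y j := fun M =>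
      (gsum_le hq hj hx M).trans (factorG_mono hx0 hxy hy hj)
    have hstep : ∀ N, ∑ w ∈ range (N + 1), sdWeight q (k + 1) j w = ∑ a ∈ range (N + 1),
        sdWeight q k (j + 1) a * ∑ m ∈ range ((N - a) / j + 1), (sdCount q m : ℝ) / (q : ℝ) ^ (j * m) := by
      intro N
      induction N with
      | zero => simp [sdWeight_succ hq, mul_comm]
      | succ N ihN =>
        rw [Finset.sum_range_succ, ihN, sdWeight_succ hq, Finset.sum_range_succ (n := N + 1),
          Finset.sum_range_succ (n := N + 1), Nat.sub_self, if_pos (dvd_zero j), ← add_assoc,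
          ← Finset.sum_add_distrib]
        congr 1
        · refine Finset.sum_congr rfl fun a ha => ?_
          rw [Finset.mem_range] at ha
          have he : N + 1 - a = (N - a) + 1 := by omega
          rw [he, Nat.succ_div]
          split_ifs with h
          · rw [Finset.sum_range_succ (n := (N - a) / j + 1)]
            have : j * ((N - a) / j + 1) = N - a + 1 := by
              obtain ⟨d, hd⟩ := h
              rw [hd]
              congr 1
              have h1 : (N - a + 1) / j = d := by rw [hd, Nat.mul_div_cancel_left _ (by omega)]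
              rw [Nat.succ_div, if_pos ⟨d, hd⟩] at h1
              omega
            rw [this]
            ring
          · simp
        · simp [mul_comm]
    rw [hstep, Finset.prod_range_succ', add_zero]
    refine (Finset.sum_le_sum fun a _ => mul_le_mul_of_nonneg_left (hG _) (sdWeight_nonneg _ _ _ _)).trans ?_
    rw [← Finset.sum_mul]
    refine mul_le_mul_of_nonneg_right ((ih (j + 1) (by omega) N).trans (le_of_eq ?_)) ?_
    · exact Finset.prod_congr rfl fun i _ => by rw [add_assoc, add_comm 1 i]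
    · linarith [factorG_nonneg (hx0.trans hxy) hy hj]

theorem prod_tail_le {y : ℝ} (hy0 : 0 ≤ y) (hy : y < 1) (D : ℝ) (hD : D * (1 - y) = 1 + y) (k : ℕ) :
    ∀ j, 2 ≤ j → D * y ^ (j - 1) < 1 → ∏ i ∈ range k, factorG y (j + i) ≤ 1 / (1 - D * y ^ (j - 1)) := by
  have hD0 : 0 ≤ D := by
    by_contra h
    push Not at h
    have := mul_neg_of_neg_of_pos h (by linarith : (0:ℝ) < 1 - y)
    linarith
  induction k with
  | zero =>
    intro j _ h
    rw [Finset.prod_range_zero, le_div_iff₀ (by linarith)]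
    linarith [mul_nonneg hD0 (pow_nonneg hy0 (j - 1))]
  | succ k ih =>
    intro j hj h
    set r := y ^ (j - 1) with hr
    have hr1 : r < 1 := pow_lt_one₀ hy0 hy (by omega)
    have hr0 : 0 ≤ r := pow_nonneg hy0 _
    have hyj : y ^ (j + 1 - 1) = y * r := by
      rw [hr, ← pow_succ', show j + 1 - 1 = j - 1 + 1 by omega]
    have h' : D * (y * r) < 1 := lt_of_le_of_lt
      (mul_le_mul_of_nonneg_left (mul_le_of_le_one_left hr0 hy.le) hD0) h
    have hih := ih (j + 1) (by omega) (by rwa [hyj])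
    rw [hyj] at hih
    have hG0 := factorG_nonneg hy0 hy hj
    rw [Finset.prod_range_succ', add_zero,
      Finset.prod_congr rfl fun i _ => show factorG y (j + (i + 1)) = factorG y (j + 1 + i) by ring_nf]
    refine (mul_le_mul_of_nonneg_right hih (by linarith)).trans ?_
    rw [factorG, show y ^ j = y * r by rw [hr, ← pow_succ', Nat.sub_add_cancel (by omega)], ← hr,
      div_mul_div_comm, one_mul, div_le_div_iff₀ (mul_pos (by linarith) (by linarith)) (by linarith), one_mul]
    have e : D * r = D * (y * r) + (1 + y) * r := by rw [← hD]; ring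
    nlinarith [mul_nonneg hD0 (mul_nonneg hy0 hr0), mul_nonneg hy0 hr0, mul_nonneg hr0 hr0]

/-- The count through the first `J` Euler factors and a tail. -/
theorem sdTupleCount_one_le {q : ℕ} (hq : 2 ≤ q) {y : ℝ} (hqy : 1 / (q : ℝ) ≤ y) (hy : y < 1) (D : ℝ)
    (hD : D * (1 - y) = 1 + y) (J : ℕ) (hJ : D * y ^ (J + 1) < 1) (k n : ℕ) :
    (sdTupleCount q k 1 n : ℝ) ≤
      (1 + y) * (∏ i ∈ range J, factorG y (2 + i)) / (1 - D * y ^ (J + 1)) * (q : ℝ) ^ n := by
  have hq' : (2 : ℝ) ≤ q := by exact_mod_cast hq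
  have hx0 : (0 : ℝ) ≤ 1 / (q : ℝ) := by positivity
  have hy0 : 0 ≤ y := hx0.trans hqy
  have hP1 : ∀ (s j : ℕ), 2 ≤ j → 1 ≤ ∏ i ∈ range s, factorG y (j + i) := fun s j hj => by
    induction s with
    | zero => simp
    | succ s ih =>
      rw [Finset.prod_range_succ]
      exact one_le_mul_of_one_le_of_one_le ih (factorG_nonneg hy0 hy (by omega))
  have hD0 : 0 ≤ D := by
    by_contra h
    push Not at h
    have := mul_neg_of_neg_of_pos h (by linarith : (0:ℝ) < 1 - y)
    linarith
  set P := (∏ i ∈ range J, factorG y (2 + i)) / (1 - D * y ^ (J + 1)) with hP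
  have hone : 1 ≤ 1 / (1 - D * y ^ (J + 1)) := by
    rw [le_div_iff₀ (by linarith)]
    linarith [mul_nonneg hD0 (pow_nonneg hy0 (J + 1))]
  have hbig : ∀ s, ∏ i ∈ range s, factorG y (2 + i) ≤ P := by
    intro s
    have hJ0 : (1 : ℝ) ≤ ∏ i ∈ range J, factorG y (2 + i) := hP1 J 2 le_rfl
    have hmain : ∀ t, ∏ i ∈ range (J + t), factorG y (2 + i) ≤ P := fun t => by
      rw [Finset.prod_range_add, hP, div_eq_mul_one_div]
      refine mul_le_mul_of_nonneg_left ?_ (by linarith)
      refine le_of_eq_of_le (Finset.prod_congr rfl fun i _ => by rw [← add_assoc]) ?_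
      have h2 : (2 + J) - 1 = J + 1 := by omega
      have := prod_tail_le hy0 hy D hD t (2 + J) (by omega) (by rw [h2]; exact hJ)
      rwa [h2] at this
    rcases le_or_gt J s with h | h
    · obtain ⟨t, rfl⟩ := Nat.exists_eq_add_of_le h
      exact hmain t
    · refine le_trans ?_ (hmain 0)
      rw [add_zero]
      obtain ⟨t, rfl⟩ := Nat.exists_eq_add_of_le h.le
      rw [Finset.prod_range_add]
      refine le_mul_of_one_le_right (by linarith [hP1 s 2 le_rfl]) ?_
      have := hP1 t (2 + s) (by omega)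
      simpa only [add_assoc] using this
  rw [show (1 + y) * (∏ i ∈ range J, factorG y (2 + i)) / (1 - D * y ^ (J + 1)) = (1 + y) * P by rw [hP]; ring]
  rcases k with _ | k
  · rw [sdTupleCount]
    have hC : 1 ≤ (1 + y) * P := one_le_mul_of_one_le_of_one_le (by linarith) ((hP1 0 2 le_rfl).trans (hbig 0))
    have hqn : (1 : ℝ) ≤ (q : ℝ) ^ n := one_le_pow₀ (by linarith)
    split_ifs
    · rw [Nat.cast_one]; exact one_le_mul_of_one_le_of_one_le hC hqn
    · rw [Nat.cast_zero]; positivity
  rw [← div_le_iff₀ (by positivity)]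
  show sdWeight q (k + 1) 1 n ≤ _
  rw [sdWeight_succ hq]
  calc _ ≤ ∑ a ∈ range (n + 1), (1 + y) * sdWeight q k 2 a := by
        refine Finset.sum_le_sum fun a ha => ?_
        rw [Finset.mem_range] at ha
        rw [if_pos (one_dvd _), Nat.div_one]
        refine mul_le_mul_of_nonneg_right ?_ (sdWeight_nonneg _ _ _ _)
        rcases Nat.eq_zero_or_pos (n - a) with h0 | h0
        · rw [h0]; simp [sdCount, hy0]
        · obtain ⟨m, hm⟩ : ∃ m, n - a = m + 1 := ⟨n - a - 1, by omega⟩
          rw [hm, sdCount, if_neg m.succ_ne_zero, Nat.add_sub_cancel]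
          push_cast
          rw [div_le_iff₀ (by positivity), pow_succ' (q : ℝ) m, ← mul_assoc]
          refine mul_le_mul_of_nonneg_right ?_ (by positivity)
          have : 1 ≤ y * q := by rw [div_le_iff₀ (by linarith)] at hqy; linarith
          nlinarith
    _ ≤ (1 + y) * P := by
        rw [← Finset.mul_sum]
        refine mul_le_mul_of_nonneg_left ?_ (by linarith)
        exact (sum_sdWeight_le hq rfl hqy hy k 2 le_rfl n).trans (hbig k)

theorem sdTupleCount_two_le (k n : ℕ) : 100000 * sdTupleCount 2 k 1 n ≤ 825700 * 2 ^ n := by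
  have h := sdTupleCount_one_le (q := 2) le_rfl (y := 1/2) (by norm_num) (by norm_num) 3 (by norm_num) 9
    (by norm_num) k n
  have hc : (1 + (1/2 : ℝ)) * (∏ i ∈ range 9, factorG (1/2) (2 + i)) / (1 - 3 * (1/2) ^ (9 + 1)) ≤ 8257/1000 := by
    norm_num [Finset.prod_range_succ, factorG]
  have h2 := h.trans (mul_le_mul_of_nonneg_right hc (by positivity))
  rw [← Nat.cast_le (α := ℝ)]
  push_cast at h2 ⊢
  linarith

theorem sdTupleCount_three_le {q : ℕ} (hq : 3 ≤ q) (k n : ℕ) : 10 * sdTupleCount q k 1 n ≤ 39 * q ^ n := by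
  have hq' : (3 : ℝ) ≤ q := by exact_mod_cast hq
  have h := sdTupleCount_one_le (q := q) (by omega) (y := 1/3)
    (by rw [div_le_div_iff₀ (by linarith) (by norm_num)]; linarith) (by norm_num) 2 (by norm_num) 1
    (by norm_num) k n
  have hc : (1 + (1/3 : ℝ)) * (∏ i ∈ range 1, factorG (1/3) (2 + i)) / (1 - 2 * (1/3) ^ (1 + 1)) ≤ 39/10 := by
    norm_num [Finset.prod_range_succ, factorG]
  have h2 := h.trans (mul_le_mul_of_nonneg_right hc (by positivity))
  rw [← Nat.cast_le (α := ℝ)]
  push_cast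
  linarith

end Series

end CfsgLib.FgsC.SUClasses
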