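import Cfsg.Agent.Lib.Classical.UnitaryOrder
import Cfsg.Agent.Lib.FgsC.PSLClasses.Kernel

/-!
Monic polynomials over `F_{q²}` fixed by the conjugate-reciprocal map, and their number.
-/

set_option autoImplicit false

universe u

namespace CfsgLib.FgsC.SUClasses

open Polynomial

variable {F : Type u} [Field F] (σ : F →+* F)

/-- The conjugate reciprocal, normalised to be monic. -/
noncomputable def tl (g : F[X]) : F[X] := C (σ (g.coeff 0))⁻¹ * (g.map σ).reverse

theorem tl_mul (f g : F[X]) : tl σ (f * g) = tl σ f * tl σ g := by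
  rw [tl, tl, tl, mul_coeff_zero, map_mul, mul_inv, Polynomial.map_mul, reverse_mul_of_domain, C_mul]
  ring

theorem tl_one : tl σ (1 : F[X]) = 1 := by
  rw [tl, coeff_one_zero, map_one, inv_one, C_1, one_mul, Polynomial.map_one, ← C_1, reverse_C]

/-- `tl` as a monoid homomorphism. -/
noncomputable def tlHom : F[X] →* F[X] where
  toFun := tl σ
  map_one' := tl_one σ
  map_mul' := tl_mul σ

theorem tl_prod {κ : Type*} (s : Finset κ) (f : κ → F[X]) :
    tl σ (∏ x ∈ s, f x) = ∏ x ∈ s, tl σ (f x) := map_prod (tlHom σ) f s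

theorem tl_pow (f : F[X]) (j : ℕ) : tl σ (f ^ j) = tl σ f ^ j := map_pow (tlHom σ) f j

variable {σ}

theorem natDegree_tl {g : F[X]} (h0 : g.coeff 0 ≠ 0) : (tl σ g).natDegree = g.natDegree := by
  have h0' : σ (g.coeff 0) ≠ 0 := (map_ne_zero σ).2 h0
  rw [tl, natDegree_C_mul (inv_ne_zero h0')]
  have h := natDegree_eq_reverse_natDegree_add_natTrailingDegree (g.map σ)
  rw [natTrailingDegree_eq_zero.2 (Or.inr (by rwa [coeff_map])), add_zero] at h
  rw [← h, natDegree_map]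

theorem coeff_tl (g : F[X]) {k : ℕ} (hk : k ≤ g.natDegree) :
    (tl σ g).coeff k = (σ (g.coeff 0))⁻¹ * σ (g.coeff (g.natDegree - k)) := by
  rw [tl, coeff_C_mul, coeff_reverse, natDegree_map, coeff_map, revAt_le hk]

theorem tl_monic {g : F[X]} (h0 : g.coeff 0 ≠ 0) : (tl σ g).Monic := by
  rw [Monic, leadingCoeff, natDegree_tl h0, coeff_tl g le_rfl, Nat.sub_self,
    inv_mul_cancel₀ ((map_ne_zero σ).2 h0)]

theorem tl_coeff_zero {g : F[X]} (hm : g.Monic) : (tl σ g).coeff 0 = (σ (g.coeff 0))⁻¹ := by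
  rw [coeff_tl g (Nat.zero_le _), Nat.sub_zero, hm.coeff_natDegree, map_one, mul_one]

theorem tl_coeff_zero_ne {g : F[X]} (hm : g.Monic) (h0 : g.coeff 0 ≠ 0) : (tl σ g).coeff 0 ≠ 0 := by
  rw [tl_coeff_zero hm]
  exact inv_ne_zero ((map_ne_zero σ).2 h0)

variable (hσ2 : ∀ x, σ (σ x) = x)
include hσ2

theorem tl_tl {g : F[X]} (hm : g.Monic) (h0 : g.coeff 0 ≠ 0) : tl σ (tl σ g) = g := by
  ext k
  rcases le_or_gt k g.natDegree with hk | hk
  · rw [coeff_tl _ (by rwa [natDegree_tl h0]), natDegree_tl h0, coeff_tl g (Nat.sub_le _ _),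
      Nat.sub_sub_self hk, tl_coeff_zero hm, map_inv₀, hσ2, inv_inv, map_mul, map_inv₀, hσ2, hσ2,
      ← mul_assoc, mul_inv_cancel₀ h0, one_mul]
  · rw [coeff_eq_zero_of_natDegree_lt hk, coeff_eq_zero_of_natDegree_lt
      (by rw [natDegree_tl (tl_coeff_zero_ne hm h0), natDegree_tl h0]; exact hk)]

theorem tl_irreducible {g : F[X]} (hm : g.Monic) (h0 : g.coeff 0 ≠ 0) (hi : Irreducible g) :
    Irreducible (tl σ g) := by
  have hm' := tl_monic (σ := σ) h0
  rw [Monic.irreducible_iff_natDegree hm']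
  refine ⟨fun h => ?_, fun a b ha hb hab => ?_⟩
  · have := congrArg natDegree h
    rw [natDegree_tl h0, natDegree_one] at this
    exact absurd this (Nat.pos_iff_ne_zero.1 hi.natDegree_pos)
  · have hab0 : a.coeff 0 ≠ 0 ∧ b.coeff 0 ≠ 0 := by
      have := tl_coeff_zero_ne (σ := σ) hm h0
      rw [← hab, mul_coeff_zero] at this
      exact mul_ne_zero_iff.1 this
    have h1 : tl σ a * tl σ b = g := by rw [← tl_mul, hab, tl_tl hσ2 hm h0]
    have := ((Monic.irreducible_iff_natDegree hm).1 hi).2 _ _ (tl_monic hab0.1) (tl_monic hab0.2) h1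
    rwa [natDegree_tl hab0.1, natDegree_tl hab0.2] at this

omit hσ2

/-- The number of fixed monic polynomials of degree `m` prime to `X`. -/
def sdCount (q m : ℕ) : ℕ := if m = 0 then 1 else (q + 1) * q ^ (m - 1)

/-- The coefficient vectors compatible with the constant term `c`. -/
def coefSet (σ : F →+* F) (i : ℕ) (c : F) : Set (Fin i → F) := {v | ∀ k, c * σ (v k.rev) = v k}

variable {q : ℕ}

theorem card_coefSet [Finite F] (hF : Nat.card F = q ^ 2) (hσne : σ ≠ RingHom.id F) (hσ2 : ∀ x, σ (σ x) = x)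
    (i : ℕ) {c : F} (hc : c * σ c = 1) : Nat.card (coefSet σ i c) = q ^ i := by
  obtain ⟨θ, hθ⟩ : ∃ θ, σ θ ≠ θ := by
    by_contra h
    push Not at h
    exact hσne (RingHom.ext h)
  let τ : (Fin i → F) → (Fin i → F) := fun v k => c * σ (v k.rev)
  have hmem : ∀ v, v ∈ coefSet σ i c ↔ τ v = v := fun v => funext_iff.symm
  have hττ : ∀ v, τ (τ v) = v := fun v => funext fun k => by
    show c * σ (c * σ (v k.rev.rev)) = v k
    rw [Fin.rev_rev, map_mul, hσ2, ← mul_assoc, hc, one_mul]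
  have hd : θ - σ θ ≠ 0 := sub_ne_zero.2 (Ne.symm hθ)
  let f : coefSet σ i c × coefSet σ i c → (Fin i → F) := fun p k => p.1.1 k + θ * p.2.1 k
  have hinj : Function.Injective f := by
    rintro ⟨u, w⟩ ⟨u', w'⟩ h
    have hk : ∀ k, w.1 k = w'.1 k := by
      intro k
      have h1 := congrFun h k
      have h2 := congrArg (fun x => c * σ x) (congrFun h k.rev)
      simp only [f, map_add, map_mul, mul_add, mul_left_comm c (σ θ)] at h1 h2
      rw [u.2 k, u'.2 k, w.2 k, w'.2 k] at h2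
      refine mul_left_cancel₀ hd ?_
      linear_combination h1 - h2
    obtain rfl : w = w' := Subtype.ext (funext hk)
    obtain rfl : u = u' := Subtype.ext (funext fun k => by
      have h1 := congrFun h k
      simp only [f] at h1
      linear_combination h1)
    rfl
  have hsur : Function.Surjective f := by
    intro v
    let w : Fin i → F := fun k => (v k - τ v k) / (θ - σ θ)
    have hw : τ w = w := funext fun k => by
      show c * σ ((v k.rev - τ v k.rev) / (θ - σ θ)) = (v k - τ v k) / (θ - σ θ)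
      rw [map_div₀, map_sub, map_sub, hσ2, mul_div_assoc', mul_sub,
        show c * σ (τ v k.rev) = v k from congrFun (hττ v) k, show c * σ (v k.rev) = τ v k from rfl,
        ← neg_sub (v k), ← neg_sub θ, neg_div_neg_eq]
    let u : Fin i → F := fun k => v k - θ * w k
    have hu : τ u = u := funext fun k => by
      show c * σ (v k.rev - θ * w k.rev) = v k - θ * w k
      rw [map_sub, map_mul, mul_sub, mul_left_comm, show c * σ (w k.rev) = w k from congrFun hw k,
        show c * σ (v k.rev) = τ v k from rfl]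
      have : w k * (θ - σ θ) = v k - τ v k := div_mul_cancel₀ _ hd
      linear_combination this
    exact ⟨⟨⟨u, (hmem u).2 hu⟩, ⟨w, (hmem w).2 hw⟩⟩, funext fun k => sub_add_cancel _ _⟩
  have h := Nat.card_eq_of_bijective f ⟨hinj, hsur⟩
  rw [Nat.card_prod, Nat.card_fun, Nat.card_fin, hF, ← pow_mul, mul_comm 2 i, pow_mul, sq] at h
  exact Nat.mul_self_inj.1 h

theorem norm_one_of_fixed {g : F[X]} (hσ : ∀ x, σ x = x ^ q) (hm : g.Monic) (h0 : g.coeff 0 ≠ 0)
    (h : tl σ g = g) : g.coeff 0 ^ (q + 1) = 1 := by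
  have := tl_coeff_zero (σ := σ) hm
  rw [h] at this
  rw [pow_succ', ← hσ]
  nth_rw 1 [this]
  exact inv_mul_cancel₀ ((map_ne_zero σ).2 h0)

theorem mul_conj_eq_one (hσ : ∀ x, σ x = x ^ q) {c : F} (hc : c ^ (q + 1) = 1) : c * σ c = 1 := by
  rw [hσ, ← pow_succ', hc]

section Equiv

variable [Finite F] (hF : Nat.card F = q ^ 2) (hσ : ∀ x, σ x = x ^ q)
include hσ

/-- Fixed polynomials of degree `i + 1` by constant term and interior coefficients. -/
theorem nonempty_sd_equiv (i : ℕ) :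
    ∃ e : {p : F[X] // p.Monic ∧ p.natDegree = i + 1 ∧ p.coeff 0 ≠ 0 ∧ tl σ p = p} ≃
      Σ c : {c : F // c ^ (q + 1) = 1}, coefSet σ i c.1, ∀ p, (e p).1.1 = p.1.coeff 0 := by
  classical
  let e₀ : {p : F[X] // p.Monic ∧ p.natDegree = i + 1} ≃ (Fin (i + 1) → F) :=
    (monicEquivDegreeLT (i + 1)).trans (degreeLTEquiv F (i + 1)).toEquiv
  have he : ∀ p (j : Fin (i + 1)), e₀ p j = p.1.coeff j := fun p j => by
    show (p.1.eraseLead).coeff j = _
    rw [eraseLead_coeff_of_ne _ (by rw [p.2.2]; exact Nat.ne_of_lt j.2)]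
  have hto : ∀ p : {p : F[X] // p.Monic ∧ p.natDegree = i + 1 ∧ p.coeff 0 ≠ 0 ∧ tl σ p = p},
      (fun k : Fin i => p.1.coeff ((k : ℕ) + 1)) ∈ coefSet σ i (p.1.coeff 0) := by
    rintro ⟨p, hm, hd, h0, ht⟩ k
    show p.coeff 0 * σ (p.coeff ((k.rev : ℕ) + 1)) = p.coeff ((k : ℕ) + 1)
    conv_rhs => rw [← ht]
    rw [coeff_tl p (by have := k.2; omega), hd, ← tl_coeff_zero hm, ht, Fin.val_rev,
      show i - ((k : ℕ) + 1) + 1 = i + 1 - ((k : ℕ) + 1) by have := k.2; omega]
  let P : (Σ c : {c : F // c ^ (q + 1) = 1}, coefSet σ i c.1) → {p : F[X] // p.Monic ∧ p.natDegree = i + 1} :=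
    fun x => e₀.symm (Fin.cons x.1.1 x.2.1)
  have hP0 : ∀ x, (P x).1.coeff 0 = x.1.1 := fun x => by
    have := he (P x) 0
    rw [show e₀ (P x) = Fin.cons x.1.1 x.2.1 from e₀.apply_symm_apply _, Fin.cons_zero] at this
    exact this.symm
  have hPs : ∀ x (k : Fin i), (P x).1.coeff ((k : ℕ) + 1) = x.2.1 k := fun x k => by
    have := he (P x) k.succ
    rw [show e₀ (P x) = Fin.cons x.1.1 x.2.1 from e₀.apply_symm_apply _, Fin.cons_succ] at this
    exact this.symm
  have hfix : ∀ x, (P x).1.coeff 0 ≠ 0 ∧ tl σ (P x).1 = (P x).1 := by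
    intro x
    have hc := mul_conj_eq_one hσ x.1.2
    have hc0 : x.1.1 ≠ 0 := left_ne_zero_of_mul_eq_one hc
    have h0 : (P x).1.coeff 0 ≠ 0 := by rw [hP0]; exact hc0
    have hinv : (σ x.1.1)⁻¹ = x.1.1 := inv_eq_of_mul_eq_one_left hc
    refine ⟨h0, Polynomial.ext fun k => ?_⟩
    rcases Nat.lt_or_ge (i + 1) k with hk | hk
    · rw [coeff_eq_zero_of_natDegree_lt (by rw [natDegree_tl h0, (P x).2.2]; exact hk),
        coeff_eq_zero_of_natDegree_lt (by rw [(P x).2.2]; exact hk)]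
    rw [coeff_tl _ (by rw [(P x).2.2]; exact hk), (P x).2.2, hP0, hinv]
    rcases Nat.eq_zero_or_pos k with rfl | hk0
    · have := (P x).2.1.coeff_natDegree
      rw [(P x).2.2] at this
      rw [Nat.sub_zero, this, map_one, mul_one, hP0]
    rcases eq_or_lt_of_le hk with rfl | hk1
    · have := (P x).2.1.coeff_natDegree
      rw [(P x).2.2] at this
      rw [Nat.sub_self, hP0, this, hc]
    obtain ⟨j, rfl⟩ : ∃ j, k = j + 1 := ⟨k - 1, by omega⟩
    let kj : Fin i := ⟨j, by omega⟩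
    rw [show i + 1 - (j + 1) = (kj.rev : ℕ) + 1 by rw [Fin.val_rev]; show _ = i - (j + 1) + 1; omega,
      hPs, show (P x).1.coeff (j + 1) = _ from hPs x kj]
    exact x.2.2 kj
  refine ⟨
    { toFun := fun p => ⟨⟨p.1.coeff 0, norm_one_of_fixed hσ p.2.1 p.2.2.2.1 p.2.2.2.2⟩, ⟨_, hto p⟩⟩
      invFun := fun x => ⟨(P x).1, (P x).2.1, (P x).2.2, (hfix x).1, (hfix x).2⟩
      left_inv := fun p => Subtype.ext (by
        show (e₀.symm _).1 = p.1
        rw [show (Fin.cons (p.1.coeff 0) (fun k : Fin i => p.1.coeff ((k : ℕ) + 1)) : Fin (i + 1) → F) =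
          e₀ ⟨p.1, p.2.1, p.2.2.1⟩ from funext fun j => by
            rw [he]
            induction j using Fin.cases with
            | zero => simp
            | succ j => simp, Equiv.symm_apply_apply])
      right_inv := fun x => by
        rcases x with ⟨c, v⟩
        have h1 : (⟨(P ⟨c, v⟩).1.coeff 0, norm_one_of_fixed hσ (P ⟨c, v⟩).2.1 (hfix ⟨c, v⟩).1 (hfix ⟨c, v⟩).2⟩ :
            {c : F // c ^ (q + 1) = 1}) = c := Subtype.ext (hP0 _)
        refine Sigma.ext h1 ((Subtype.heq_iff_coe_eq fun w => ?_).2 (funext fun k => hPs ⟨c, v⟩ k))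
        show w ∈ coefSet σ i ((P ⟨c, v⟩).1.coeff 0) ↔ w ∈ coefSet σ i c.1
        rw [hP0] }, fun p => rfl⟩

include hF in
theorem card_sd (hσne : σ ≠ RingHom.id F) (hσ2 : ∀ x, σ (σ x) = x) (m : ℕ) :
    Finite {p : F[X] // p.Monic ∧ p.natDegree = m ∧ p.coeff 0 ≠ 0 ∧ tl σ p = p} ∧
      Nat.card {p : F[X] // p.Monic ∧ p.natDegree = m ∧ p.coeff 0 ≠ 0 ∧ tl σ p = p} = sdCount q m := by
  classical
  rcases Nat.eq_zero_or_pos m with rfl | hm
  · haveI : Subsingleton {p : F[X] // p.Monic ∧ p.natDegree = 0 ∧ p.coeff 0 ≠ 0 ∧ tl σ p = p} := ⟨fun a b =>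
      Subtype.ext (by rw [a.2.1.natDegree_eq_zero.1 a.2.2.1, b.2.1.natDegree_eq_zero.1 b.2.2.1])⟩
    exact ⟨inferInstance, by
      rw [sdCount, if_pos rfl]
      exact Nat.card_eq_one_iff_unique.2
        ⟨inferInstance, ⟨⟨1, monic_one, natDegree_one, by simp, tl_one σ⟩⟩⟩⟩
  obtain ⟨i, rfl⟩ : ∃ i, m = i + 1 := ⟨m - 1, by omega⟩
  obtain ⟨e, -⟩ := nonempty_sd_equiv hσ i
  refine ⟨Finite.of_equiv _ e.symm, ?_⟩
  haveI := Fintype.ofFinite {c : F // c ^ (q + 1) = 1}
  rw [Nat.card_congr e, Nat.card_sigma,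
    Finset.sum_congr rfl fun c _ => card_coefSet hF hσne hσ2 i (mul_conj_eq_one hσ c.2),
    Finset.sum_const, Finset.card_univ, ← Nat.card_eq_fintype_card, CfsgLib.Classical.card_pow_succ_eq_one hF,
    smul_eq_mul, sdCount, if_neg i.succ_ne_zero, Nat.add_sub_cancel]

end Equiv

end CfsgLib.FgsC.SUClasses
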